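import Mathlib
import Groth.Agent.H05EGA4.FibreLifting
import Groth.Agent.H02CA.GorRing
import Groth.Agent.H26Grass.Cone

/-!
# Laurent polynomial rings, hypersurface sections: `RS` and Gorenstein transfer (helper24)
-/

set_option autoImplicit false
set_option linter.style.haveILetI false
universe u
open IsLocalRing Groth.Agent Polynomial LaurentPolynomial
open Groth.Agent.H05EGA4 (RS RSLocal)
open scoped TensorProduct

namespace Groth.Agent.H24Filt

theorem rsLocal_bot_iff {n : WithBot ℕ∞} {R : Type u} [CommRing R] [IsLocalRing R] :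
    RSLocal ⊥ n R ↔ min n (ringKrullDim R) ≤ ((LocCoh.depth R R : ℕ∞) : WithBot ℕ∞) :=
  ⟨fun h => h.2, fun h => ⟨fun hd => absurd (ringKrullDim_nonneg_of_nontrivial.trans hd) (by simp), h⟩⟩

/-- Cutting by a regular element lowers `n` by one. -/
theorem rsLocal_succ_quotient_iff {m : ℕ∞} {C : Type u} [CommRing C] [IsLocalRing C] [IsNoetherianRing C] {t : C}
    (ht : t ∈ maximalIdeal C) (hreg : t ∈ nonZeroDivisors C) [IsLocalRing (C ⧸ Ideal.span {t})] :
    RSLocal ⊥ ((m + 1 : ℕ∞) : WithBot ℕ∞) C ↔ RSLocal ⊥ (m : WithBot ℕ∞) (C ⧸ Ideal.span {t}) := by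
  have hdim := H05EGA4.ringKrullDim_quotient_span_singleton_add_one ht hreg
  have hne : ringKrullDim (C ⧸ Ideal.span {t}) ≠ ⊥ := fun h => by
    have h0 : (0 : WithBot ℕ∞) ≤ ringKrullDim (C ⧸ Ideal.span {t}) := ringKrullDim_nonneg_of_nontrivial
    rw [h] at h0
    simp at h0
  obtain ⟨x, hx⟩ := WithBot.ne_bot_iff_exists.mp hne
  have hdep := H8Props.FlatDepth.depth_self_quotient_add_one C ht
    (isSMulRegular_iff_right_eq_zero_of_smul.mpr fun c hc => (mem_nonZeroDivisors_iff_left.mp hreg) c hc)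
    (Ideal.span {t}) rfl
  rw [rsLocal_bot_iff, rsLocal_bot_iff, ← hdim, ← hdep, ← hx, ← WithBot.coe_one, ← WithBot.coe_add,
    ← WithBot.coe_min, ← WithBot.coe_min, WithBot.coe_le_coe, WithBot.coe_le_coe, min_add_add_right]
  exact ENat.add_le_add_iff_right ENat.one_ne_top

section hypersurface

variable {R G : Type u} [CommRing R] [CommRing G] (φ : R →+* G) (hφ : Function.Surjective φ) {t : R}
  (hker : RingHom.ker φ = Ideal.span {t})

include hker in
theorem mem_comap_of_ker (q : Ideal G) : t ∈ q.comap φ := by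
  have : t ∈ RingHom.ker φ := hker ▸ Ideal.mem_span_singleton_self t
  rw [Ideal.mem_comap, RingHom.mem_ker.mp this]
  exact q.zero_mem

include hφ hker in
/-- The local ring of a hypersurface section at a prime. -/
theorem nonempty_equiv_section (q : Ideal G) [q.IsPrime] :
    Nonempty ((Localization.AtPrime (q.comap φ) ⧸
      Ideal.span {algebraMap R (Localization.AtPrime (q.comap φ)) t}) ≃+* Localization.AtPrime q) := by
  obtain ⟨e⟩ := H02CA.GorFlat.nonempty_equiv_quot φ hφ q (Localization.AtPrime (q.comap φ))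
  exact ⟨(Ideal.quotEquivOfEq (by rw [hker, Ideal.map_span, Set.image_singleton])).trans e⟩

variable [IsNoetherianRing R] (hreg : t ∈ nonZeroDivisors R)

include hφ hker hreg in
theorem rsLocal_succ_comap_iff {m : ℕ∞} (q : Ideal G) [q.IsPrime] :
    RSLocal ⊥ ((m + 1 : ℕ∞) : WithBot ℕ∞) (Localization.AtPrime (q.comap φ)) ↔
      RSLocal ⊥ (m : WithBot ℕ∞) (Localization.AtPrime q) := by
  haveI : IsNoetherianRing G := isNoetherianRing_of_surjective R G φ hφ
  have hm : algebraMap R (Localization.AtPrime (q.comap φ)) t ∈ maximalIdeal _ :=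
    (IsLocalization.AtPrime.to_map_mem_maximal_iff _ (q.comap φ) t).mpr (mem_comap_of_ker φ hker q)
  haveI := H05EGA4.isLocalRing_quotient_span_singleton hm
  obtain ⟨e⟩ := nonempty_equiv_section φ hφ hker q
  rw [rsLocal_succ_quotient_iff hm
    (IsLocalization.map_nonZeroDivisors_le (q.comap φ).primeCompl _ ⟨t, hreg, rfl⟩)]
  exact ⟨RSLocal.of_ringEquiv e, RSLocal.of_ringEquiv e.symm⟩

include hφ hker hreg in
theorem gor_comap_iff (q : Ideal G) [q.IsPrime] :
    LocCoh.IsGorensteinLocalRing (Localization.AtPrime (q.comap φ)) ↔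
      LocCoh.IsGorensteinLocalRing (Localization.AtPrime q) := by
  have hm : algebraMap R (Localization.AtPrime (q.comap φ)) t ∈ maximalIdeal _ :=
    (IsLocalization.AtPrime.to_map_mem_maximal_iff _ (q.comap φ) t).mpr (mem_comap_of_ker φ hker q)
  have hnzd := IsLocalization.map_nonZeroDivisors_le (q.comap φ).primeCompl (Localization.AtPrime (q.comap φ))
    ⟨t, hreg, rfl⟩
  obtain ⟨e⟩ := nonempty_equiv_section φ hφ hker q
  rw [H4Goren.isGorensteinLocalRing_quotient_iff hm
    (isSMulRegular_iff_right_eq_zero_of_smul.mpr fun c hc => (mem_nonZeroDivisors_iff_left.mp hnzd) c hc)]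
  exact H02CA.GorFlat.gor_iff_of_ringEquiv e

include hφ hker in
theorem exists_comap_eq (P : Ideal R) [hP : P.IsPrime] (htP : t ∈ P) :
    ∃ q : Ideal G, q.IsPrime ∧ q.comap φ = P := by
  have hle : RingHom.ker φ ≤ P := hker.le.trans ((Ideal.span_singleton_le_iff_mem _).mpr htP)
  refine ⟨P.map φ, Ideal.map_isPrime_of_surjective hφ hle, ?_⟩
  rw [Ideal.comap_map_of_surjective' φ hφ, sup_eq_left]
  exact hle

end hypersurface

theorem cm_iff_rsLocal {R : Type u} [CommRing R] [IsLocalRing R] [IsNoetherianRing R] :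
    LocCoh.IsCohenMacaulayLocalRing R ↔ RSLocal ⊥ ((⊤ : ℕ∞) : WithBot ℕ∞) R := by
  rw [rsLocal_bot_iff, H8Props.FlatDepth.isCM_iff_dim, min_eq_right]
  · exact ⟨fun h => h.le, fun h => le_antisymm h (H8Props.FlatDepth.depth_le_dim R)⟩
  · cases ringKrullDim R with
    | bot => exact bot_le
    | coe a => exact WithBot.coe_le_coe.mpr le_top

theorem gor_of_le {R : Type u} [CommRing R] {p P : Ideal R} [p.IsPrime] [P.IsPrime] (h : p ≤ P)
    (hP : LocCoh.IsGorensteinLocalRing (Localization.AtPrime P)) :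
    LocCoh.IsGorensteinLocalRing (Localization.AtPrime p) := by
  have hdisj : Disjoint (P.primeCompl : Set R) p := Set.disjoint_left.mpr fun a ha hap => ha (h hap)
  have hq := IsLocalization.isPrime_of_isPrime_disjoint P.primeCompl (Localization.AtPrime P) p
    ‹p.IsPrime› hdisj
  have hc : (p.map (algebraMap R (Localization.AtPrime P))).comap (algebraMap R (Localization.AtPrime P)) = p :=
    IsLocalization.under_map_of_isPrime_disjoint P.primeCompl (Localization.AtPrime P) ‹p.IsPrime› hdisj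
  haveI := hP
  exact (H02CA.GorFlat.gor_congr hc).1 ((H02CA.GorFlat.gor_localization_iff P.primeCompl (Localization.AtPrime P) _).1
    ((H02CA.GorFlat.isGorensteinRing_of_local (Localization.AtPrime P)).isGorensteinLocalRing_localization
      (p.map (algebraMap R (Localization.AtPrime P)))))

/-! ### Laurent polynomials -/

section Laurent

variable {A : Type u} [CommRing A]

instance : IsScalarTower A A[X] A[T;T⁻¹] :=
  IsScalarTower.of_algebraMap_eq fun a => (Polynomial.toLaurent_C a).symm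

theorem isNoetherianRing_laurent [IsNoetherianRing A] : IsNoetherianRing A[T;T⁻¹] :=
  IsLocalization.isNoetherianRing (Submonoid.powers (Polynomial.X : A[X])) A[T;T⁻¹] inferInstance

theorem isRegularRing_fibre_polynomial (p : Ideal A) [p.IsPrime] : IsRegularRing (p.Fiber A[X]) :=
  IsRegularRing.of_ringEquiv (polyEquivTensor A p.ResidueField).toRingEquiv

variable [IsNoetherianRing A]

/-- Ascent to the Laurent polynomial ring, at a prime. -/
theorem rsLocal_laurent {r n : WithBot ℕ∞} (P : Ideal A[T;T⁻¹]) [P.IsPrime]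
    (h : RSLocal r n (Localization.AtPrime (P.comap (algebraMap A A[T;T⁻¹])))) :
    RSLocal r n (Localization.AtPrime P) := by
  rw [H05EGA4.rsLocal_localization_iff (Submonoid.powers (Polynomial.X : A[X])) A[T;T⁻¹] P]
  set P1 := P.comap (algebraMap A[X] A[T;T⁻¹])
  have hq : P.comap (algebraMap A A[T;T⁻¹]) = P1.comap (algebraMap A A[X]) := by
    rw [Ideal.comap_comap, ← IsScalarTower.algebraMap_eq]
  let p := P1.comap (algebraMap A A[X])
  let Q := PrimeSpectrum.preimageEquivFiber A A[X] ⟨p, inferInstance⟩ ⟨⟨P1, inferInstance⟩, rfl⟩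
  have hQ : Q.asIdeal.comap Algebra.TensorProduct.includeRight = P1 :=
    congr($((PrimeSpectrum.preimageEquivFiber A A[X] ⟨p, inferInstance⟩).left_inv ⟨⟨P1, inferInstance⟩, rfl⟩).1.asIdeal)
  haveI := isRegularRing_fibre_polynomial p
  exact (H05EGA4.rsLocal_congr hQ).mp (H05EGA4.rsLocal_of_flat_of_fibre p Q.asIdeal
    ((H05EGA4.rsLocal_congr hq).mp h) (H05EGA4.rs_of_isRegularRing (p.Fiber A[X]) Q.asIdeal))

/-- Ascent of the Gorenstein property to the Laurent polynomial ring, at a prime. -/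
theorem gor_laurent (P : Ideal A[T;T⁻¹]) [P.IsPrime]
    (h : LocCoh.IsGorensteinLocalRing (Localization.AtPrime (P.comap (algebraMap A A[T;T⁻¹])))) :
    LocCoh.IsGorensteinLocalRing (Localization.AtPrime P) := by
  rw [H02CA.GorFlat.gor_localization_iff (Submonoid.powers (Polynomial.X : A[X])) A[T;T⁻¹] P]
  set P1 := P.comap (algebraMap A[X] A[T;T⁻¹])
  have hq : P.comap (algebraMap A A[T;T⁻¹]) = P1.comap (algebraMap A A[X]) := by
    rw [Ideal.comap_comap, ← IsScalarTower.algebraMap_eq]
  let p := P1.comap (algebraMap A A[X])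
  let Q := PrimeSpectrum.preimageEquivFiber A A[X] ⟨p, inferInstance⟩ ⟨⟨P1, inferInstance⟩, rfl⟩
  have hQ : Q.asIdeal.comap Algebra.TensorProduct.includeRight = P1 :=
    congr($((PrimeSpectrum.preimageEquivFiber A A[X] ⟨p, inferInstance⟩).left_inv ⟨⟨P1, inferInstance⟩, rfl⟩).1.asIdeal)
  haveI := isRegularRing_fibre_polynomial p
  exact (H02CA.GorFlat.gor_congr hQ).mp ((H02CA.GorFlat.gor_iff_fibre p Q.asIdeal).2
    ⟨(H02CA.GorFlat.gor_congr hq).mp h,
      (H02CA.GorFlat.isGorensteinRing_of_isRegularRing (p.Fiber A[X])).isGorensteinLocalRing_localization _⟩)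

/-- Descent of the Cohen–Macaulay property from a point of the Laurent polynomial ring. -/
theorem cm_of_laurent (P : Ideal A[T;T⁻¹]) [P.IsPrime] (q : Ideal A) [q.IsPrime] [P.LiesOver q]
    (h : LocCoh.IsCohenMacaulayLocalRing (Localization.AtPrime P)) :
    LocCoh.IsCohenMacaulayLocalRing (Localization.AtPrime q) := by
  haveI := isNoetherianRing_laurent (A := A)
  haveI := h
  obtain ⟨P', _, hle, _, hmin⟩ := H05EGA4.exists_prime_fibre_dim_zero q P
  have h' := H26Grass.isCM_localization_of_le hle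
  exact cm_iff_rsLocal.mpr (H05EGA4.rsLocal_of_flat_descent q P' hmin (cm_iff_rsLocal.mp h'))

/-- Descent of the Gorenstein property from a point of the Laurent polynomial ring. -/
theorem gor_of_laurent (P : Ideal A[T;T⁻¹]) [P.IsPrime] (q : Ideal A) [q.IsPrime] [P.LiesOver q]
    (h : LocCoh.IsGorensteinLocalRing (Localization.AtPrime P)) :
    LocCoh.IsGorensteinLocalRing (Localization.AtPrime q) := by
  haveI := isNoetherianRing_laurent (A := A)
  have hover : P.comap (algebraMap A A[T;T⁻¹]) = q := (Ideal.LiesOver.over (P := P) (p := q)).symm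
  let Q := PrimeSpectrum.preimageEquivFiber A A[T;T⁻¹] ⟨q, inferInstance⟩
    ⟨⟨P, inferInstance⟩, PrimeSpectrum.ext hover⟩
  have hQ : Q.asIdeal.comap Algebra.TensorProduct.includeRight = P :=
    congr($((PrimeSpectrum.preimageEquivFiber A A[T;T⁻¹] ⟨q, inferInstance⟩).left_inv
      ⟨⟨P, inferInstance⟩, PrimeSpectrum.ext hover⟩).1.asIdeal)
  exact ((H02CA.GorFlat.gor_iff_fibre q Q.asIdeal).1 ((H02CA.GorFlat.gor_congr hQ).mpr h)).1

end Laurent

end Groth.Agent.H24Filt
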