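import Mathlib
import Groth.Prelude.Def_W4c2filtblowupsingRees
import Groth.Agent.H24Filt.LaurentRS

/-!
# Extended Rees algebras of filtrations: localisations, Cohen–Macaulay, Gorenstein, `(S_n)` (helper24)
-/

set_option autoImplicit false
set_option linter.style.haveILetI false
universe u
open IsLocalRing Groth.Agent Polynomial LaurentPolynomial FiltBl
open Groth.Agent.H05EGA4 (RS RSLocal)

namespace Groth.Agent.H24Filt.ExtRees

variable {A : Type u} [CommRing A]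

theorem coeff_C_mul_T (a : A) (n m : ℤ) :
    (LaurentPolynomial.C a * T n : A[T;T⁻¹]).coeff m = if n = m then a else 0 := by
  classical
  rw [← single_eq_C_mul_T, AddMonoidAlgebra.coeff_single]
  exact Finsupp.single_apply

theorem coeff_mul_T (f : A[T;T⁻¹]) (n m : ℤ) : (f * T n).coeff m = f.coeff (m - n) := by
  rw [T, AddMonoidAlgebra.coeff_mul_single_apply, mul_one, sub_eq_add_neg]

theorem sum_monomials (x : A[T;T⁻¹]) :
    ∑ n ∈ x.coeff.support, LaurentPolynomial.C (x.coeff n) * T n = x := by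
  classical
  refine LaurentPolynomial.ext fun m => ?_
  rw [AddMonoidAlgebra.coeff_sum, Finset.sum_apply']
  simp only [coeff_C_mul_T]
  rw [Finset.sum_ite_eq']
  split_ifs with h
  · rfl
  · exact (Finsupp.notMem_support_iff.mp h).symm

variable (𝓕 : IdealFiltration A)

theorem F_of_nonpos {n : ℤ} (h : n ≤ 0) : 𝓕.F n.toNat = ⊤ := by
  rw [Int.toNat_of_nonpos h, 𝓕.zero_eq]

theorem pow_le (k : ℕ) : (𝓕.F 1) ^ k ≤ 𝓕.F k := by
  induction k with
  | zero => simp [𝓕.zero_eq]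
  | succ k ih => exact (pow_succ _ _).le.trans ((Ideal.mul_mono_left ih).trans (𝓕.mul_le k 1))

theorem F_one_ne_top [Nontrivial A] (hsep : ⨅ n, 𝓕.F n = ⊥) : 𝓕.F 1 ≠ ⊤ := by
  intro h
  have h1 : ⨅ n, 𝓕.F n = ⊤ := iInf_eq_top.mpr fun n => top_le_iff.mp (by
    have := pow_le 𝓕 n
    rwa [h, Ideal.top_pow] at this)
  exact top_ne_bot (h1.symm.trans hsep)

theorem mem_monomial {a : A} {n : ℤ} (ha : a ∈ 𝓕.F n.toNat) : LaurentPolynomial.C a * T n ∈ 𝓕.extRees := by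
  intro m
  rw [coeff_C_mul_T]
  split_ifs with h
  · exact h ▸ ha
  · exact Ideal.zero_mem _

theorem mem_extRees {x : A[T;T⁻¹]} : x ∈ 𝓕.extRees ↔ ∀ n : ℤ, x.coeff n ∈ 𝓕.F n.toNat := Iff.rfl

/-- The element `a T ^ n`. -/
noncomputable def mono (n : ℤ) (a : A) (ha : a ∈ 𝓕.F n.toNat) : 𝓕.extRees :=
  ⟨LaurentPolynomial.C a * T n, mem_monomial 𝓕 ha⟩

@[simp] theorem coe_mono (n : ℤ) (a : A) (ha : a ∈ 𝓕.F n.toNat) :
    (mono 𝓕 n a ha : A[T;T⁻¹]) = LaurentPolynomial.C a * T n := rfl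

theorem coe_u_pow (k : ℕ) : ((𝓕.u ^ k : 𝓕.extRees) : A[T;T⁻¹]) = T (-(k : ℤ)) := by
  rw [SubmonoidClass.coe_pow]
  change (T (-1 : ℤ) : A[T;T⁻¹]) ^ k = _
  rw [T_pow, mul_neg, mul_one]

theorem mono_eq_neg (k : ℕ) (a : A) (ha : a ∈ 𝓕.F (-(k : ℤ)).toNat) :
    mono 𝓕 (-(k : ℤ)) a ha = algebraMap A 𝓕.extRees a * 𝓕.u ^ k := by
  refine Subtype.ext ?_
  rw [MulMemClass.coe_mul, coe_u_pow, coe_mono, Subalgebra.coe_algebraMap, LaurentPolynomial.algebraMap_apply,
    Algebra.algebraMap_self, RingHom.id_apply]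

/-- An ideal contains an element when it contains all its monomials. -/
theorem mem_of_mono_mem (P : Ideal 𝓕.extRees) (x : 𝓕.extRees)
    (h : ∀ n : ℤ, mono 𝓕 n ((x : A[T;T⁻¹]).coeff n) (x.2 n) ∈ P) : x ∈ P := by
  have hx : x = ∑ n ∈ (x : A[T;T⁻¹]).coeff.support, mono 𝓕 n ((x : A[T;T⁻¹]).coeff n) (x.2 n) := by
    refine Subtype.ext ?_
    rw [AddSubmonoidClass.coe_finset_sum]
    exact (sum_monomials (x : A[T;T⁻¹])).symm
  rw [hx]
  exact Ideal.sum_mem _ fun n _ => h n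

/-! ### The Rees algebra inside -/

theorem toLaurent_mem {f : A[X]} (hf : f ∈ 𝓕.rees) : Polynomial.toLaurent f ∈ 𝓕.extRees := by
  rw [← f.sum_monomial_eq, Polynomial.sum, map_sum]
  refine Subalgebra.sum_mem _ fun n _ => ?_
  rw [Polynomial.toLaurent_C_mul_T]
  exact mem_monomial 𝓕 (by simpa using hf n)

/-- The inclusion of the Rees algebra. -/
noncomputable def reesIncl : 𝓕.rees →ₐ[A] 𝓕.extRees :=
  ((Polynomial.toLaurentAlg (R := A)).comp 𝓕.rees.val).codRestrict 𝓕.extRees fun f => toLaurent_mem 𝓕 f.2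

@[simp] theorem coe_reesIncl (f : 𝓕.rees) : (reesIncl 𝓕 f : A[T;T⁻¹]) = Polynomial.toLaurent (f : A[X]) := rfl

theorem reesIncl_injective : Function.Injective (reesIncl 𝓕) := fun f g h =>
  Subtype.ext (Polynomial.toLaurent_injective (by rw [← coe_reesIncl, ← coe_reesIncl, h]))

theorem monomial_mem_rees {a : A} {n : ℕ} (ha : a ∈ 𝓕.F n) : Polynomial.monomial n a ∈ 𝓕.rees := by
  intro m
  rw [Polynomial.coeff_monomial]
  split_ifs with h
  · exact h ▸ ha
  · exact Ideal.zero_mem _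

theorem mono_natCast (n : ℕ) (a : A) (ha : a ∈ 𝓕.F (n : ℤ).toNat) :
    mono 𝓕 (n : ℤ) a ha = reesIncl 𝓕 ⟨Polynomial.monomial n a, monomial_mem_rees 𝓕 (by simpa using ha)⟩ :=
  Subtype.ext (Polynomial.toLaurent_C_mul_T n a).symm

theorem finiteType (hfg : Algebra.FiniteType A 𝓕.rees) : Algebra.FiniteType A 𝓕.extRees := by
  haveI := hfg
  letI : Algebra 𝓕.rees 𝓕.extRees := (reesIncl 𝓕).toRingHom.toAlgebra
  haveI : IsScalarTower A 𝓕.rees 𝓕.extRees := IsScalarTower.of_algebraMap_eq fun a => ((reesIncl 𝓕).commutes a).symm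
  let ψ : Polynomial 𝓕.rees →ₐ[𝓕.rees] 𝓕.extRees := Polynomial.aeval 𝓕.u
  haveI : Algebra.FiniteType A (Polynomial 𝓕.rees) := Algebra.FiniteType.trans hfg inferInstance
  refine Algebra.FiniteType.of_surjective (ψ.restrictScalars A) fun x => ?_
  change x ∈ (ψ.restrictScalars A).range
  have hx : x = ∑ n ∈ (x : A[T;T⁻¹]).coeff.support, mono 𝓕 n ((x : A[T;T⁻¹]).coeff n) (x.2 n) := by
    refine Subtype.ext ?_
    rw [AddSubmonoidClass.coe_finset_sum]
    exact (sum_monomials (x : A[T;T⁻¹])).symm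
  rw [hx]
  refine Subalgebra.sum_mem _ fun n _ => ?_
  have key : ∀ (m : ℤ) (a : A) (ha : a ∈ 𝓕.F m.toNat), mono 𝓕 m a ha ∈ (ψ.restrictScalars A).range := by
    intro m a ha
    rcases le_total 0 m with hm | hm
    · lift m to ℕ using hm
      exact ⟨Polynomial.C ⟨Polynomial.monomial m a, monomial_mem_rees 𝓕 (by simpa using ha)⟩,
        (Polynomial.aeval_C _ _).trans (mono_natCast 𝓕 m a ha).symm⟩
    · obtain ⟨k, rfl⟩ : ∃ k : ℕ, m = -(k : ℤ) := ⟨(-m).toNat, by omega⟩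
      refine ⟨Polynomial.C (algebraMap A 𝓕.rees a) * Polynomial.X ^ k, ?_⟩
      change Polynomial.aeval 𝓕.u _ = _
      rw [map_mul, Polynomial.aeval_C, map_pow, Polynomial.aeval_X, mono_eq_neg,
        ← IsScalarTower.algebraMap_apply]
  exact key _ _ _

/-! ### Inverting `u` -/

theorem u_mem_nonZeroDivisors : 𝓕.u ∈ nonZeroDivisors 𝓕.extRees := by
  rw [mem_nonZeroDivisors_iff_right]
  intro x hx
  refine Subtype.ext ?_
  have h : (x : A[T;T⁻¹]) * T (-1) = 0 := congrArg Subtype.val hx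
  exact (isUnit_T (-1)).mul_left_eq_zero.mp h

theorem algebraMap_eq (x : 𝓕.extRees) : algebraMap 𝓕.extRees A[T;T⁻¹] x = (x : A[T;T⁻¹]) := rfl

theorem isLocalization_u : IsLocalization (Submonoid.powers 𝓕.u) A[T;T⁻¹] where
  map_units := by
    rintro ⟨_, k, rfl⟩
    change IsUnit ((𝓕.u ^ k : 𝓕.extRees) : A[T;T⁻¹])
    rw [coe_u_pow]
    exact isUnit_T _
  surj y := by
    obtain ⟨k, hk⟩ : ∃ k : ℕ, ∀ n ∈ y.coeff.support, n ≤ (k : ℤ) :=
      ⟨y.coeff.support.sup Int.toNat, fun n hn =>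
        (Int.self_le_toNat n).trans (by exact_mod_cast Finset.le_sup hn)⟩
    refine ⟨(⟨y * T (-(k : ℤ)), fun n => ?_⟩, ⟨_, k, rfl⟩), ?_⟩
    · rw [coeff_mul_T, sub_neg_eq_add]
      rcases le_or_gt n 0 with hn | hn
      · rw [F_of_nonpos 𝓕 hn]; exact Submodule.mem_top
      · rw [Finsupp.notMem_support_iff.mp fun h => by have := hk _ h; omega]
        exact Ideal.zero_mem _
    · change y * ((𝓕.u ^ k : 𝓕.extRees) : A[T;T⁻¹]) = y * T (-(k : ℤ))
      rw [coe_u_pow]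
  exists_of_eq {x y} h := ⟨1, by rw [Subtype.ext (show (x : A[T;T⁻¹]) = y from h)]⟩

/-- Primes not containing `u` come from the Laurent polynomial ring. -/
theorem exists_comap_eq (P : Ideal 𝓕.extRees) [hP : P.IsPrime] (hu : 𝓕.u ∉ P) :
    ∃ P' : Ideal A[T;T⁻¹], P'.IsPrime ∧ P'.comap (algebraMap 𝓕.extRees A[T;T⁻¹]) = P := by
  haveI := isLocalization_u 𝓕
  have hdisj : Disjoint (Submonoid.powers 𝓕.u : Set 𝓕.extRees) (P : Set 𝓕.extRees) := by
    refine Set.disjoint_left.mpr ?_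
    rintro _ ⟨k, rfl⟩ hk
    exact hu (hP.mem_of_pow_mem k hk)
  exact ⟨P.map (algebraMap 𝓕.extRees A[T;T⁻¹]),
    IsLocalization.isPrime_of_isPrime_disjoint (Submonoid.powers 𝓕.u) _ P hP hdisj,
    IsLocalization.under_map_of_isPrime_disjoint (Submonoid.powers 𝓕.u) _ hP hdisj⟩

/-! ### Coefficientwise primes -/

/-- Laurent polynomials with all coefficients in `q`. -/
noncomputable def coeffIdeal (q : Ideal A) : Ideal A[T;T⁻¹] :=
  RingHom.ker (AddMonoidAlgebra.mapRingHom ℤ (Ideal.Quotient.mk q))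

theorem mem_coeffIdeal {q : Ideal A} {x : A[T;T⁻¹]} : x ∈ coeffIdeal q ↔ ∀ n, x.coeff n ∈ q := by
  rw [coeffIdeal, RingHom.mem_ker]
  constructor
  · intro h n
    rw [← Ideal.Quotient.eq_zero_iff_mem, ← AddMonoidAlgebra.coeff_mapRingHom, h]
    rfl
  · intro h
    refine LaurentPolynomial.ext fun n => ?_
    rw [AddMonoidAlgebra.coeff_mapRingHom, Ideal.Quotient.eq_zero_iff_mem.mpr (h n)]
    rfl

instance (q : Ideal A) [q.IsPrime] : (coeffIdeal q).IsPrime := RingHom.ker_isPrime _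

theorem comap_coeffIdeal (q : Ideal A) : (coeffIdeal q).comap (algebraMap A A[T;T⁻¹]) = q := by
  ext a
  rw [Ideal.mem_comap, mem_coeffIdeal, ← LaurentPolynomial.C_eq_algebraMap]
  constructor
  · intro h
    simpa using h 0
  · intro h n
    rw [LaurentPolynomial.C_apply]
    split_ifs
    · exact h
    · exact q.zero_mem

instance (q : Ideal A) [q.IsPrime] : (coeffIdeal q).LiesOver q := ⟨(comap_coeffIdeal q).symm⟩

/-- The constant coefficient, as a map to a quotient by an ideal containing `F 1`. -/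
noncomputable def coeffZero (q : Ideal A) (hq : 𝓕.F 1 ≤ q) : 𝓕.extRees →+* A ⧸ q where
  toFun x := Ideal.Quotient.mk q ((x : A[T;T⁻¹]).coeff 0)
  map_one' := by rw [OneMemClass.coe_one, ← T_zero, T_apply, if_pos rfl, map_one]
  map_zero' := by simp
  map_add' x y := by rw [AddMemClass.coe_add, AddMonoidAlgebra.coeff_add, Finsupp.add_apply, map_add]
  map_mul' x y := by
    classical
    rw [← map_mul, Ideal.Quotient.eq]
    have hx : (x : A[T;T⁻¹]) * y = ∑ n ∈ (x : A[T;T⁻¹]).coeff.support,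
        LaurentPolynomial.C ((x : A[T;T⁻¹]).coeff n) * T n * (y : A[T;T⁻¹]) := by
      rw [← Finset.sum_mul, sum_monomials]
    have hterm : ∀ n, (LaurentPolynomial.C ((x : A[T;T⁻¹]).coeff n) * T n * (y : A[T;T⁻¹])).coeff 0 =
        (x : A[T;T⁻¹]).coeff n * (y : A[T;T⁻¹]).coeff (-n) := fun n => by
      rw [mul_assoc, T_mul, ← mul_assoc, coeff_mul_T, ← LaurentPolynomial.smul_eq_C_mul, AddMonoidAlgebra.coeff_smul,
        Finsupp.smul_apply, smul_eq_mul, zero_sub]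
    rw [MulMemClass.coe_mul, hx, AddMonoidAlgebra.coeff_sum, Finset.sum_apply']
    simp only [hterm]
    have hsum : ∀ n ∈ (x : A[T;T⁻¹]).coeff.support, n ≠ 0 →
        (x : A[T;T⁻¹]).coeff n * (y : A[T;T⁻¹]).coeff (-n) ∈ q := by
      intro n _ hn
      rcases lt_or_gt_of_ne hn with h | h
      · exact q.mul_mem_left _ (hq (𝓕.antitone (show 1 ≤ (-n).toNat by omega) (y.2 (-n))))
      · exact q.mul_mem_right _ (hq (𝓕.antitone (show 1 ≤ n.toNat by omega) (x.2 n)))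
    by_cases h0 : (0 : ℤ) ∈ (x : A[T;T⁻¹]).coeff.support
    · rw [← Finset.add_sum_erase _ _ h0, neg_zero, add_sub_cancel_left]
      exact Ideal.sum_mem _ fun n hn => hsum n (Finset.mem_of_mem_erase hn) (Finset.ne_of_mem_erase hn)
    · rw [Finsupp.notMem_support_iff.mp h0, zero_mul, sub_zero]
      exact Ideal.sum_mem _ fun n hn => hsum n hn fun h => h0 (h ▸ hn)

theorem coeffZero_apply {q : Ideal A} (hq : 𝓕.F 1 ≤ q) (x : 𝓕.extRees) :
    coeffZero 𝓕 q hq x = Ideal.Quotient.mk q ((x : A[T;T⁻¹]).coeff 0) := rfl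

/-- A prime containing `u` above the coefficientwise prime of the maximal ideal. -/
theorem exists_prime_u_mem [IsLocalRing A] (hsep : ⨅ n, 𝓕.F n = ⊥) :
    ∃ M : Ideal 𝓕.extRees, M.IsPrime ∧ 𝓕.u ∈ M ∧
      (coeffIdeal (maximalIdeal A)).comap (algebraMap 𝓕.extRees A[T;T⁻¹]) ≤ M := by
  have hq := le_maximalIdeal (F_one_ne_top 𝓕 hsep)
  refine ⟨RingHom.ker (coeffZero 𝓕 (maximalIdeal A) hq), RingHom.ker_isPrime _, ?_, fun x hx => ?_⟩
  · rw [RingHom.mem_ker, coeffZero_apply]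
    change Ideal.Quotient.mk _ ((T (-1) : A[T;T⁻¹]).coeff 0) = 0
    rw [T_apply, if_neg (by omega), map_zero]
  · rw [RingHom.mem_ker, coeffZero_apply, Ideal.Quotient.eq_zero_iff_mem]
    exact mem_coeffIdeal.mp hx 0

/-! ### The theorems -/

section Noeth

variable [IsNoetherianRing A] (hfg : Algebra.FiniteType A 𝓕.rees)
  {G : Type u} [CommRing G] (φ : 𝓕.extRees →+* G) (hφ : Function.Surjective φ)
  (hker : RingHom.ker φ = Ideal.span {𝓕.u})

include hfg in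
theorem isNoetherianRing_extRees : IsNoetherianRing 𝓕.extRees :=
  haveI := finiteType 𝓕 hfg
  Algebra.FiniteType.isNoetherianRing A _

include hfg hφ hker in
theorem rs_extRees_iff [Nontrivial A] (m : ℕ∞) :
    RS ⊥ ((m + 1 : ℕ∞) : WithBot ℕ∞) 𝓕.extRees ↔
      RS ⊥ (m : WithBot ℕ∞) G ∧ RS ⊥ ((m + 1 : ℕ∞) : WithBot ℕ∞) A := by
  haveI := isNoetherianRing_extRees 𝓕 hfg
  haveI := isNoetherianRing_laurent (A := A)
  haveI := isLocalization_u 𝓕
  constructor
  · intro h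
    refine ⟨fun q _ => (rsLocal_succ_comap_iff φ hφ hker (u_mem_nonZeroDivisors 𝓕) q).mp (h _), ?_⟩
    exact H05EGA4.RS.of_faithfullyFlat (h.of_isLocalization (Submonoid.powers 𝓕.u) A[T;T⁻¹])
  · rintro ⟨hG, hA⟩ P _
    by_cases hu : 𝓕.u ∈ P
    · obtain ⟨q, hq, hqP⟩ := H24Filt.exists_comap_eq φ hφ hker P hu
      exact (H05EGA4.rsLocal_congr hqP).mp
        ((rsLocal_succ_comap_iff φ hφ hker (u_mem_nonZeroDivisors 𝓕) q).mpr (hG q))
    · obtain ⟨P', hP', hPP⟩ := exists_comap_eq 𝓕 P hu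
      exact (H05EGA4.rsLocal_congr hPP).mp
        ((H05EGA4.rsLocal_localization_iff (Submonoid.powers 𝓕.u) A[T;T⁻¹] P').mp (rsLocal_laurent P' (hA _)))

include hfg hφ hker in
/-- `G` Cohen–Macaulay forces `A` Cohen–Macaulay. -/
theorem rs_top_of_gr [IsLocalRing A] (hsep : ⨅ n, 𝓕.F n = ⊥) (hG : RS ⊥ ((⊤ : ℕ∞) : WithBot ℕ∞) G) :
    RS ⊥ ((⊤ : ℕ∞) : WithBot ℕ∞) A := by
  haveI := isNoetherianRing_extRees 𝓕 hfg
  haveI := isNoetherianRing_laurent (A := A)
  haveI := isLocalization_u 𝓕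
  obtain ⟨M, _, hu, hle⟩ := exists_prime_u_mem 𝓕 hsep
  obtain ⟨q, hq, hqM⟩ := H24Filt.exists_comap_eq φ hφ hker M hu
  have hM := (H05EGA4.rsLocal_congr hqM).mp
    ((rsLocal_succ_comap_iff φ hφ hker (u_mem_nonZeroDivisors 𝓕) q).mpr (hG q))
  rw [top_add] at hM
  haveI := cm_iff_rsLocal.mpr hM
  have h1 := H26Grass.isCM_localization_of_le hle
  have h2 : LocCoh.IsCohenMacaulayLocalRing (Localization.AtPrime (coeffIdeal (maximalIdeal A))) :=
    cm_iff_rsLocal.mpr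
      ((H05EGA4.rsLocal_localization_iff (Submonoid.powers 𝓕.u) A[T;T⁻¹] _).mpr (cm_iff_rsLocal.mp h1))
  haveI := cm_of_laurent (coeffIdeal (maximalIdeal A)) (maximalIdeal A) h2
  intro p _
  exact cm_iff_rsLocal.mp (H26Grass.isCM_localization_of_le (le_maximalIdeal (Ideal.IsPrime.ne_top ‹_›)))

include hfg hφ hker in
theorem rs_top_extRees_iff [IsLocalRing A] (hsep : ⨅ n, 𝓕.F n = ⊥) :
    RS ⊥ ((⊤ : ℕ∞) : WithBot ℕ∞) 𝓕.extRees ↔ RS ⊥ ((⊤ : ℕ∞) : WithBot ℕ∞) G := by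
  have h := rs_extRees_iff 𝓕 hfg φ hφ hker ⊤
  rw [top_add] at h
  rw [h]
  exact ⟨fun h => h.1, fun hG => ⟨hG, rs_top_of_gr 𝓕 hfg φ hφ hker hsep hG⟩⟩

include hfg hφ hker in
theorem gor_extRees_iff [IsLocalRing A] (hsep : ⨅ n, 𝓕.F n = ⊥) :
    LocCoh.IsGorensteinRing 𝓕.extRees ↔ LocCoh.IsGorensteinRing G := by
  haveI := isNoetherianRing_extRees 𝓕 hfg
  haveI := isNoetherianRing_laurent (A := A)
  haveI := isLocalization_u 𝓕
  haveI : IsNoetherianRing G := isNoetherianRing_of_surjective _ G φ hφ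
  constructor
  · intro h
    exact { isGorensteinLocalRing_localization := fun q _ =>
      (gor_comap_iff φ hφ hker (u_mem_nonZeroDivisors 𝓕) q).mp (h.isGorensteinLocalRing_localization _) }
  · intro hG
    have hu' : ∀ (P : Ideal 𝓕.extRees) [P.IsPrime], 𝓕.u ∈ P →
        LocCoh.IsGorensteinLocalRing (Localization.AtPrime P) := by
      intro P _ hu
      obtain ⟨q, hq, hqP⟩ := H24Filt.exists_comap_eq φ hφ hker P hu
      exact (H02CA.GorFlat.gor_congr hqP).mp ((gor_comap_iff φ hφ hker (u_mem_nonZeroDivisors 𝓕) q).mpr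
        (hG.isGorensteinLocalRing_localization q))
    obtain ⟨M, _, hu, hle⟩ := exists_prime_u_mem 𝓕 hsep
    have h2 := (H02CA.GorFlat.gor_localization_iff (Submonoid.powers 𝓕.u) A[T;T⁻¹]
      (coeffIdeal (maximalIdeal A))).mpr (gor_of_le hle (hu' M hu))
    have hA := gor_of_laurent (coeffIdeal (maximalIdeal A)) (maximalIdeal A) h2
    refine { isGorensteinLocalRing_localization := fun P _ => ?_ }
    by_cases huP : 𝓕.u ∈ P
    · exact hu' P huP
    · obtain ⟨P', hP', hPP⟩ := exists_comap_eq 𝓕 P huP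
      exact (H02CA.GorFlat.gor_congr hPP).mp
        ((H02CA.GorFlat.gor_localization_iff (Submonoid.powers 𝓕.u) A[T;T⁻¹] P').mp
          (gor_laurent P' (gor_of_le (le_maximalIdeal (Ideal.IsPrime.ne_top inferInstance)) hA)))

include hfg hφ hker in
/-- Cohen–Macaulay away from the positive part. -/
theorem cm_off_positive_iff (Rp : Ideal 𝓕.extRees)
    (hRp : Rp = Ideal.span {x : 𝓕.extRees | ∃ n : ℕ, 0 < n ∧ ∃ a ∈ 𝓕.F n,
      (x : LaurentPolynomial A) = LaurentPolynomial.C a * LaurentPolynomial.T (n : ℤ)}) :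
    (∀ (P : Ideal 𝓕.extRees) [P.IsPrime], ¬ Rp ≤ P →
        LocCoh.IsCohenMacaulayLocalRing (Localization.AtPrime P)) ↔
      ((∀ (p : Ideal G) [p.IsPrime], ¬ Ideal.map φ Rp ≤ p →
          LocCoh.IsCohenMacaulayLocalRing (Localization.AtPrime p)) ∧
        (∀ (q : Ideal A) [q.IsPrime], ¬ 𝓕.F 1 ≤ q →
            LocCoh.IsCohenMacaulayLocalRing (Localization.AtPrime q))) := by
  haveI := isNoetherianRing_extRees 𝓕 hfg
  haveI := isNoetherianRing_laurent (A := A)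
  haveI := isLocalization_u 𝓕
  haveI : IsNoetherianRing G := isNoetherianRing_of_surjective _ G φ hφ
  have key : ∀ (q : Ideal G) [q.IsPrime], LocCoh.IsCohenMacaulayLocalRing (Localization.AtPrime (q.comap φ)) ↔
      LocCoh.IsCohenMacaulayLocalRing (Localization.AtPrime q) := by
    intro q _
    rw [cm_iff_rsLocal, cm_iff_rsLocal,
      ← rsLocal_succ_comap_iff φ hφ hker (u_mem_nonZeroDivisors 𝓕) q, top_add]
  constructor
  · intro h
    refine ⟨fun p _ hp => (key p).mp (h _ fun hle => hp (Ideal.map_le_iff_le_comap.mpr hle)), fun q _ hq => ?_⟩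
    obtain ⟨a, ha, haq⟩ := SetLike.not_le_iff_exists.mp hq
    have hmem : a ∈ 𝓕.F ((1 : ℕ) : ℤ).toNat := by simpa using ha
    have hnot : ¬ Rp ≤ (coeffIdeal q).comap (algebraMap 𝓕.extRees A[T;T⁻¹]) := by
      intro hle
      have hx : mono 𝓕 ((1 : ℕ) : ℤ) a hmem ∈ Rp := by
        rw [hRp]
        exact Ideal.subset_span ⟨1, one_pos, a, ha, rfl⟩
      have h1 := mem_coeffIdeal.mp (hle hx) ((1 : ℕ) : ℤ)
      rw [algebraMap_eq, coe_mono, coeff_C_mul_T, if_pos rfl] at h1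
      exact haq h1
    exact cm_of_laurent (coeffIdeal q) q (cm_iff_rsLocal.mpr
      ((H05EGA4.rsLocal_localization_iff (Submonoid.powers 𝓕.u) A[T;T⁻¹] _).mpr
        (cm_iff_rsLocal.mp (h _ hnot))))
  · rintro ⟨hG, hA⟩ P _ hP
    by_cases hu : 𝓕.u ∈ P
    · obtain ⟨q, hq, hqP⟩ := H24Filt.exists_comap_eq φ hφ hker P hu
      subst hqP
      exact (key q).mpr (hG q fun hle => hP (Ideal.map_le_iff_le_comap.mp hle))
    · obtain ⟨P', hP', hPP⟩ := exists_comap_eq 𝓕 P hu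
      subst hPP
      refine cm_iff_rsLocal.mpr ((H05EGA4.rsLocal_localization_iff (Submonoid.powers 𝓕.u) A[T;T⁻¹] P').mp
        (rsLocal_laurent P' (cm_iff_rsLocal.mp (hA _ fun hle => hP ?_))))
      rw [hRp, Ideal.span_le]
      rintro x ⟨n, hn, a, ha, hxa⟩
      rw [SetLike.mem_coe, Ideal.mem_comap, algebraMap_eq, hxa]
      exact P'.mul_mem_right _ (hle (𝓕.antitone (Nat.one_le_iff_ne_zero.mpr hn.ne') ha))

include hfg hφ hker in
/-- The extended Rees algebra is `(S_2)` iff the associated graded ring is `(S_1)` and the base is `(S_2)`. -/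
theorem hasS2_extRees_iff [Nontrivial A] :
    LocCoh.HasSk 2 𝓕.extRees 𝓕.extRees ↔ (LocCoh.HasSk 1 G G ∧ LocCoh.HasSk 2 A A) := by
  haveI := isNoetherianRing_extRees 𝓕 hfg
  haveI : IsNoetherianRing G := isNoetherianRing_of_surjective _ G φ hφ
  have h2 : ((((1 : ℕ) : ℕ∞) + 1 : ℕ∞) : WithBot ℕ∞) = ((2 : ℕ) : WithBot ℕ∞) := by norm_num
  have h := rs_extRees_iff 𝓕 hfg φ hφ hker ((1 : ℕ) : ℕ∞)
  rw [h2] at h
  rw [H05EGA4.hasSk_self_iff_rs, H05EGA4.hasSk_self_iff_rs, H05EGA4.hasSk_self_iff_rs]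
  exact h

end Noeth

end Groth.Agent.H24Filt.ExtRees
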