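import Groth.Agent.H11Proj.Graded
import Mathlib.RingTheory.GradedAlgebra.Radical
import Mathlib.RingTheory.Polynomial.IsIntegral
import Mathlib.RingTheory.IntegralClosure.IntegrallyClosed
import Mathlib.RingTheory.Polynomial.UniqueFactorization
import Mathlib.RingTheory.Artinian.Module
import Mathlib.RingTheory.Localization.AtPrime.Basic
import Mathlib.RingTheory.FiniteLength
import Mathlib.RingTheory.HopkinsLevitzki
import Mathlib.RingTheory.KrullDimension.Basic

/-!
The conductor of a graded domain in its normalization is homogeneous.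
-/

set_option autoImplicit false
set_option linter.style.haveILetI false

universe u

open Polynomial DirectSum

namespace Groth.Agent.H24Filt

variable {G : Type u} [CommRing G] {σ : Type*} [SetLike σ G] [AddSubgroupClass σ G] (𝒢 : ℕ → σ) [GradedRing 𝒢]

/-- The coaction `g ↦ ∑ gₙ Xⁿ`. -/
noncomputable def coact : G →+* G[X] :=
  (DirectSum.toSemiring (fun n => (monomial n : G →ₗ[G] G[X]).toAddMonoidHom.comp (AddSubmonoidClass.subtype (𝒢 n)))
    (by simp [monomial_zero_left])
    (fun {i j} a b => by simp [monomial_mul_monomial])).comp (DirectSum.decomposeRingEquiv 𝒢 : G →+* ⨁ n, 𝒢 n)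

theorem coact_of_mem {n : ℕ} {g : G} (hg : g ∈ 𝒢 n) : coact 𝒢 g = monomial n g := by
  rw [coact, RingHom.comp_apply, show (DirectSum.decomposeRingEquiv 𝒢 : G →+* ⨁ n, 𝒢 n) g = decompose 𝒢 g from rfl,
    decompose_of_mem 𝒢 hg, DirectSum.toSemiring_of]
  rfl

theorem coeff_coact (g : G) (n : ℕ) : (coact 𝒢 g).coeff n = decompose 𝒢 g n := by
  classical
  conv_lhs => rw [← sum_support_decompose 𝒢 g]
  rw [map_sum, finset_sum_coeff]
  by_cases hn : n ∈ (decompose 𝒢 g).support
  · rw [Finset.sum_eq_single_of_mem n hn]
    · rw [coact_of_mem 𝒢 (SetLike.coe_mem _), coeff_monomial, if_pos rfl]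
    · intro b _ hbn
      rw [coact_of_mem 𝒢 (SetLike.coe_mem _), coeff_monomial, if_neg hbn]
  · rw [DFinsupp.notMem_support_iff.mp hn, ZeroMemClass.coe_zero, Finset.sum_eq_zero]
    intro b hb
    rw [coact_of_mem 𝒢 (SetLike.coe_mem _), coeff_monomial, if_neg]
    rintro rfl
    exact hn hb

theorem coact_injective : Function.Injective (coact 𝒢) := by
  intro a b h
  refine (decompose 𝒢).injective (DFinsupp.ext fun n => Subtype.ext ?_)
  have := congrArg (fun p => p.coeff n) h
  simpa only [coeff_coact] using this

theorem exists_fracLift {R L K : Type u} [CommRing R] [IsDomain R] [Field L] [Algebra R L] [IsFractionRing R L] [Field K]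
    (f : R →+* K) (hf : Function.Injective f) : ∃ Φ : L →+* K, Φ.comp (algebraMap R L) = f :=
  ⟨IsFractionRing.lift hf, RingHom.ext fun r => IsFractionRing.lift_algebraMap hf r⟩

variable (L : Type u) [Field L] [Algebra G L]

/-- The elements multiplying all integral elements into the ring. -/
def conductor : Ideal G where
  carrier := {a | ∀ y : L, IsIntegral G y → ∃ g, algebraMap G L g = algebraMap G L a * y}
  zero_mem' := fun y _ => ⟨0, by simp⟩
  add_mem' := fun {a b} ha hb y hy => by
    obtain ⟨g, hg⟩ := ha y hy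
    obtain ⟨g', hg'⟩ := hb y hy
    exact ⟨g + g', by simp [hg, hg', add_mul]⟩
  smul_mem' := fun c a ha y hy => by
    obtain ⟨g, hg⟩ := ha y hy
    exact ⟨c * g, by simp [hg, mul_assoc]⟩

theorem mem_conductor {a : G} : a ∈ conductor L ↔ ∀ y : L, IsIntegral G y → ∃ g, algebraMap G L g = algebraMap G L a * y :=
  Iff.rfl

variable [IsDomain G] [IsFractionRing G L]

/-- The conductor of a graded domain is homogeneous. -/
theorem isHomogeneous_conductor : (conductor (G := G) L).IsHomogeneous 𝒢 := by
  classical
  intro m a ha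
  obtain ⟨Φ, hΦ⟩ := exists_fracLift (L := L) ((algebraMap L[X] (FractionRing L[X])).comp
    ((mapRingHom (algebraMap G L)).comp (coact 𝒢)))
    ((IsFractionRing.injective L[X] (FractionRing L[X])).comp
      ((Polynomial.map_injective _ (IsFractionRing.injective G L)).comp (coact_injective 𝒢)))
  have hΦ' : ∀ g, Φ (algebraMap G L g) = algebraMap L[X] (FractionRing L[X]) ((coact 𝒢 g).map (algebraMap G L)) :=
    fun g => RingHom.congr_fun hΦ g
  -- polynomial images of integral elements
  have hpoly : ∀ y : L, IsIntegral G y → ∃ p : L[X], algebraMap L[X] (FractionRing L[X]) p = Φ y ∧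
      ∀ n, IsIntegral G (p.coeff n) := by
    rintro y ⟨P, hP, hPy⟩
    have h1 := congrArg Φ hPy
    rw [hom_eval₂, map_zero, hΦ] at h1
    have hint : IsIntegral L[X] (Φ y) := by
      refine ⟨P.map ((mapRingHom (algebraMap G L)).comp (coact 𝒢)), hP.map _, ?_⟩
      rw [eval₂_map]
      exact h1
    obtain ⟨p, hp⟩ := (isIntegrallyClosed_iff (FractionRing L[X])).mp inferInstance hint
    refine ⟨p, hp, fun n => ?_⟩
    refine IsIntegral.coeff (R := G) (S := L) ⟨P.map (coact 𝒢), hP.map _, ?_⟩ n
    apply IsFractionRing.injective L[X] (FractionRing L[X])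
    rw [hom_eval₂, map_zero, hp, eval₂_map]
    exact h1
  suffices key : ∀ (N : ℕ) (y : L) (p : L[X]), IsIntegral G y → algebraMap L[X] (FractionRing L[X]) p = Φ y →
      p.support.card ≤ N → ∃ g, algebraMap G L g = algebraMap G L (decompose 𝒢 a m) * y by
    intro y hy
    obtain ⟨p, hp, -⟩ := hpoly y hy
    exact key _ y p hy hp le_rfl
  intro N
  induction N with
  | zero =>
    intro y p _ hp hN
    have : p = 0 := support_eq_empty.mp (Finset.card_eq_zero.mp (Nat.le_zero.mp hN))
    rw [this, map_zero, eq_comm, map_eq_zero] at hp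
    exact ⟨0, by simp [hp]⟩
  | succ N ih =>
    intro y p hy hp hN
    by_cases hp0 : p = 0
    · exact ih y p hy hp (by simp [hp0])
    have hcoeff : ∀ n, IsIntegral G (p.coeff n) := by
      obtain ⟨q, hq, hqc⟩ := hpoly y hy
      rwa [IsFractionRing.injective L[X] (FractionRing L[X]) (hp.trans hq.symm)]
    obtain ⟨g, s, hs, hgs⟩ := IsFractionRing.div_surjective G y
    have hs0 : s ≠ 0 := nonZeroDivisors.ne_zero hs
    have hmul : p * (coact 𝒢 s).map (algebraMap G L) = (coact 𝒢 g).map (algebraMap G L) := by
      apply IsFractionRing.injective L[X] (FractionRing L[X])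
      rw [map_mul, hp, ← hΦ', ← hΦ', ← map_mul, ← hgs, div_mul_cancel₀]
      exact (map_ne_zero_iff _ (IsFractionRing.injective G L)).mpr hs0
    let sT := (coact 𝒢 s).map (algebraMap G L)
    have hsT : sT ≠ 0 := (Polynomial.map_ne_zero_iff (IsFractionRing.injective G L)).mpr
      ((map_ne_zero_iff _ (coact_injective 𝒢)).mpr hs0)
    let n := p.natTrailingDegree
    let b := sT.natTrailingDegree
    let s' : G := decompose 𝒢 s b
    let g' : G := decompose 𝒢 g (n + b)
    have hsb : sT.coeff b = algebraMap G L s' := by simp [sT, s', coeff_coact]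
    have hs'0 : algebraMap G L s' ≠ 0 := hsb ▸ (trailingCoeff_nonzero_iff_nonzero.mpr hsT)
    have hcn : p.coeff n * algebraMap G L s' = algebraMap G L g' := by
      have h1 : (p * sT).coeff (n + b) = p.coeff n * sT.coeff b := coeff_mul_natTrailingDegree_add_natTrailingDegree
      rw [hmul, coeff_map, coeff_coact, hsb] at h1
      exact h1.symm
    have hΦc : Φ (p.coeff n) = algebraMap L[X] (FractionRing L[X]) (monomial n (p.coeff n)) := by
      have h1 := congrArg Φ hcn
      rw [map_mul, hΦ', hΦ', coact_of_mem 𝒢 (SetLike.coe_mem _), coact_of_mem 𝒢 (SetLike.coe_mem _), map_monomial,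
        map_monomial, ← hcn, ← monomial_mul_monomial, map_mul] at h1
      exact mul_right_cancel₀ ((map_ne_zero_iff _ (IsFractionRing.injective L[X] (FractionRing L[X]))).mpr
        (by rw [Ne, monomial_eq_zero_iff]; exact hs'0)) h1
    have hz : ∃ h, algebraMap G L h = algebraMap G L (decompose 𝒢 a m) * p.coeff n := by
      obtain ⟨h, hh⟩ := ha _ (hcoeff n)
      refine ⟨decompose 𝒢 h (m + n), mul_right_cancel₀ hs'0 ?_⟩
      have h1 : a * g' = h * s' := IsFractionRing.injective G L (by rw [map_mul, map_mul, hh, ← hcn, mul_assoc])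
      have h2 : (decompose 𝒢 (a * g') (m + (n + b)) : G) = decompose 𝒢 (h * s') (m + n + b) := by rw [h1, add_assoc]
      rw [coe_decompose_mul_add_of_right_mem 𝒢 (SetLike.coe_mem (decompose 𝒢 g (n + b))),
        coe_decompose_mul_add_of_right_mem 𝒢 (SetLike.coe_mem (decompose 𝒢 s b))] at h2
      rw [← map_mul, ← h2, map_mul, mul_assoc, hcn]
    obtain ⟨h, hh⟩ := hz
    obtain ⟨h', hh'⟩ := ih (y - p.coeff n) (p.erase n) (hy.sub (hcoeff n)) (by
      rw [map_sub, hΦc, ← hp, ← map_sub]
      congr 1
      exact eq_sub_of_add_eq ((add_comm _ _).trans (monomial_add_erase p n)))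
      (by
        rw [support_erase, Finset.card_erase_of_mem (natTrailingDegree_mem_support_of_nonzero hp0)]
        omega)
    exact ⟨h' + h, by rw [map_add, hh', hh, mul_sub, sub_add_cancel]⟩

/-- A prime containing the conductor of a graded domain is governed by its homogeneous core. -/
theorem irrelevant_le_of_isMaximal {σ : Type*} [SetLike σ G] [AddSubgroupClass σ G] (𝒢 : ℕ → σ) [GradedRing 𝒢]
    (p : Ideal G) [p.IsMaximal] (hp : p.IsHomogeneous 𝒢) : (HomogeneousIdeal.irrelevant 𝒢).toIdeal ≤ p := by
  rw [H11Proj.irrelevant_le_iff]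
  intro d hd f hf
  by_contra hfp
  obtain ⟨h, i, hi, he⟩ := Ideal.IsMaximal.exists_inv ‹p.IsMaximal› hfp
  refine ‹p.IsMaximal›.ne_top ((Ideal.eq_top_iff_one _).mpr ?_)
  have := hp 0 hi
  rw [show i = 1 - h * f from eq_sub_of_add_eq' he, decompose_sub, DFinsupp.sub_apply,
    AddSubgroupClass.coe_sub, decompose_of_mem_same 𝒢 SetLike.GradedOne.one_mem,
    coe_decompose_mul_of_right_mem_of_not_le 𝒢 hf (by omega), sub_zero] at this
  exact this

theorem forall_isIntegrallyClosed_of_isFiniteLength
    (hfl : IsFiniteLength G (↥(integralClosure G L) ⧸ LinearMap.range (Algebra.linearMap G ↥(integralClosure G L))))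
    (p : Ideal G) [p.IsPrime] (hp : ¬ (HomogeneousIdeal.irrelevant 𝒢).toIdeal ≤ p) :
    IsIntegrallyClosed (Localization.AtPrime p) := by
  let M := ↥(integralClosure G L) ⧸ LinearMap.range (Algebra.linearMap G ↥(integralClosure G L))
  have hann : Module.annihilator G M ≤ conductor L := by
    intro a ha y hy
    have h1 := Module.mem_annihilator.mp ha (Submodule.Quotient.mk ⟨y, hy⟩)
    rw [← Submodule.Quotient.mk_smul, Submodule.Quotient.mk_eq_zero] at h1
    obtain ⟨g, hg⟩ := h1
    refine ⟨g, ?_⟩
    have h2 := congrArg Subtype.val hg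
    simpa [Algebra.smul_def] using h2
  obtain ⟨hnoeth, hart⟩ := isFiniteLength_iff_isNoetherian_isArtinian.mp hfl
  haveI : IsArtinianRing (G ⧸ Module.annihilator G M) := by
    obtain ⟨n, x, hx⟩ := Module.Finite.exists_fin (R := G) (M := M)
    let f : G →ₗ[G] (Fin n → M) := LinearMap.pi fun i => LinearMap.toSpanSingleton G M (x i)
    have hker : LinearMap.ker f ≤ Module.annihilator G M := fun a ha => by
      refine Module.mem_annihilator.mpr fun z => ?_
      have hz : z ∈ Submodule.span G (Set.range x) := hx ▸ Submodule.mem_top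
      refine Submodule.span_induction ?_ (smul_zero a) (fun u v _ _ hu hv => by rw [smul_add, hu, hv, add_zero])
        (fun c u _ hu => by rw [smul_comm, hu, smul_zero]) hz
      rintro _ ⟨i, rfl⟩
      exact congrFun (LinearMap.mem_ker.mp ha) i
    haveI : IsArtinian G (G ⧸ LinearMap.ker f) := isArtinian_of_linearEquiv f.quotKerEquivRange.symm
    haveI : IsArtinian G (G ⧸ Module.annihilator G M) :=
      isArtinian_of_surjective _ (Submodule.factor hker) (Submodule.factor_surjective hker)
    exact isArtinian_of_tower G this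
  have hcond : ¬ conductor L ≤ p := by
    intro hle
    have hmax : ∀ q : Ideal G, q.IsPrime → Module.annihilator G M ≤ q → q.IsMaximal := fun q hq hle' => by
      haveI := Ideal.map_isPrime_of_surjective (f := Ideal.Quotient.mk (Module.annihilator G M))
        Ideal.Quotient.mk_surjective (I := q) (by rw [Ideal.mk_ker]; exact hle')
      have h2 := Ideal.comap_isMaximal_of_surjective _ Ideal.Quotient.mk_surjective
        (K := q.map (Ideal.Quotient.mk (Module.annihilator G M)))
      rwa [Ideal.comap_map_of_surjective _ Ideal.Quotient.mk_surjective, ← RingHom.ker_eq_comap_bot, Ideal.mk_ker,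
        sup_eq_left.mpr hle'] at h2
    let q := (p.homogeneousCore 𝒢).toIdeal
    have hq : q.IsPrime := (inferInstance : p.IsPrime).homogeneousCore
    have hCq : conductor L ≤ q := by
      have h1 := (isHomogeneous_conductor 𝒢 L).toIdeal_homogeneousCore_eq_self
      rw [← h1]
      exact Ideal.homogeneousCore_mono 𝒢 hle
    haveI := hmax q hq (hann.trans hCq)
    have hqp : q = p := ‹q.IsMaximal›.eq_of_le (inferInstance : p.IsPrime).ne_top (Ideal.toIdeal_homogeneousCore_le 𝒢 p)
    exact hp (hqp ▸ irrelevant_le_of_isMaximal 𝒢 q (p.homogeneousCore 𝒢).isHomogeneous)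
  obtain ⟨c, hc, hcp⟩ := SetLike.not_le_iff_exists.mp hcond
  have hle : p.primeCompl ≤ nonZeroDivisors G := p.primeCompl_le_nonZeroDivisors
  letI : Algebra (Localization.AtPrime p) L := (IsLocalization.map (T := nonZeroDivisors G) (Q := L) (RingHom.id G) hle).toAlgebra
  haveI : IsScalarTower G (Localization.AtPrime p) L := IsScalarTower.of_algebraMap_eq fun x => by
    show _ = IsLocalization.map L (RingHom.id G) hle _
    rw [IsLocalization.map_eq]; rfl
  haveI : IsFractionRing (Localization.AtPrime p) L :=
    IsFractionRing.isFractionRing_of_isDomain_of_isLocalization p.primeCompl (Localization.AtPrime p) L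
  refine (isIntegrallyClosed_iff L).mpr fun {x} hx => ?_
  obtain ⟨⟨t, ht⟩, htx⟩ := IsIntegral.exists_multiple_integral_of_isLocalization p.primeCompl x hx
  obtain ⟨g, hg⟩ := hc _ htx
  refine ⟨IsLocalization.mk' _ g (⟨c * t, (inferInstance : p.IsPrime).mul_notMem hcp ht⟩ : p.primeCompl), ?_⟩
  have hct : algebraMap G L (c * t) ≠ 0 := (map_ne_zero_iff _ (IsFractionRing.injective G L)).mpr fun h =>
    (inferInstance : p.IsPrime).mul_notMem hcp ht (h ▸ zero_mem _)
  refine mul_right_cancel₀ hct ?_
  rw [IsScalarTower.algebraMap_apply G (Localization.AtPrime p) L (c * t), ← map_mul, IsLocalization.mk'_spec,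
    ← IsScalarTower.algebraMap_apply, ← IsScalarTower.algebraMap_apply, hg, map_mul, Submonoid.smul_def, Algebra.smul_def]
  ring

theorem isFiniteLength_of_forall_isIntegrallyClosed [IsNoetherianRing G]
    (hm : (HomogeneousIdeal.irrelevant 𝒢).toIdeal.IsMaximal)
    [Module.Finite G ↥(integralClosure G L)]
    (h : ∀ (p : Ideal G) [p.IsPrime], ¬ (HomogeneousIdeal.irrelevant 𝒢).toIdeal ≤ p →
      IsIntegrallyClosed (Localization.AtPrime p)) :
    IsFiniteLength G (↥(integralClosure G L) ⧸ LinearMap.range (Algebra.linearMap G ↥(integralClosure G L))) := by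
  classical
  let M := ↥(integralClosure G L) ⧸ LinearMap.range (Algebra.linearMap G ↥(integralClosure G L))
  have key : ∀ (p : Ideal G), p.IsPrime → Module.annihilator G M ≤ p → (HomogeneousIdeal.irrelevant 𝒢).toIdeal ≤ p := by
    intro p hp hle
    by_contra hn
    haveI := hp
    have hp' : p.primeCompl ≤ nonZeroDivisors G := p.primeCompl_le_nonZeroDivisors
    letI : Algebra (Localization.AtPrime p) L := (IsLocalization.map (T := nonZeroDivisors G) (Q := L) (RingHom.id G) hp').toAlgebra
    haveI : IsScalarTower G (Localization.AtPrime p) L := IsScalarTower.of_algebraMap_eq fun x => by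
      show _ = IsLocalization.map L (RingHom.id G) hp' _
      rw [IsLocalization.map_eq]; rfl
    haveI : IsFractionRing (Localization.AtPrime p) L :=
      IsFractionRing.isFractionRing_of_isDomain_of_isLocalization p.primeCompl (Localization.AtPrime p) L
    haveI := h p hn
    have hex : ∀ y : ↥(integralClosure G L), ∃ t : G, t ∉ p ∧ ∃ g, algebraMap G L g = algebraMap G L t * y := by
      intro y
      obtain ⟨z, hz⟩ := (isIntegrallyClosed_iff L).mp (inferInstance : IsIntegrallyClosed (Localization.AtPrime p))
        (IsIntegral.tower_top (A := Localization.AtPrime p) y.2)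
      obtain ⟨g, t, rfl⟩ := IsLocalization.exists_mk'_eq p.primeCompl z
      refine ⟨t, t.2, g, ?_⟩
      rw [← hz, IsScalarTower.algebraMap_apply G (Localization.AtPrime p) L (t : G), ← map_mul, mul_comm,
        IsLocalization.mk'_spec, ← IsScalarTower.algebraMap_apply]
    obtain ⟨n, x, hx⟩ := Module.Finite.exists_fin (R := G) (M := ↥(integralClosure G L))
    choose t ht g hg using fun i => hex (x i)
    refine (show ∏ i, t i ∉ p from fun h' => ?_) (hle (Module.mem_annihilator.mpr fun z => ?_))
    · obtain ⟨i, -, hi⟩ := (Ideal.IsPrime.prod_mem_iff (p := p)).mp h'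
      exact ht i hi
    · obtain ⟨z, rfl⟩ := Submodule.mkQ_surjective _ z
      rw [← map_smul, Submodule.mkQ_apply, Submodule.Quotient.mk_eq_zero]
      have hz : z ∈ Submodule.span G (Set.range x) := hx ▸ Submodule.mem_top
      refine Submodule.span_induction ?_ (by rw [smul_zero]; exact zero_mem _)
        (fun u v _ _ hu hv => by rw [smul_add]; exact add_mem hu hv)
        (fun c u _ hu => by rw [smul_comm]; exact Submodule.smul_mem _ c hu) hz
      rintro _ ⟨i, rfl⟩
      obtain ⟨r, hr⟩ : t i ∣ ∏ j, t j := Finset.dvd_prod_of_mem t (Finset.mem_univ i)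
      rw [hr, mul_comm, mul_smul]
      refine Submodule.smul_mem _ r ⟨g i, Subtype.ext ?_⟩
      simpa [Algebra.smul_def] using hg i
  haveI : IsArtinianRing (G ⧸ Module.annihilator G M) := by
    refine isArtinianRing_iff_isNoetherianRing_krullDimLE_zero.mpr ⟨inferInstance, Ring.krullDimLE_zero_iff.mpr fun P hP => ?_⟩
    have h1 := key (P.comap (Ideal.Quotient.mk (Module.annihilator G M))) inferInstance (fun a ha => by
      rw [Ideal.mem_comap, Ideal.Quotient.eq_zero_iff_mem.mpr ha]; exact zero_mem P)
    have h2 : (P.comap (Ideal.Quotient.mk (Module.annihilator G M))).IsMaximal :=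
      (hm.eq_of_le (inferInstance : (P.comap (Ideal.Quotient.mk (Module.annihilator G M))).IsPrime).ne_top h1) ▸ hm
    rw [← Ideal.map_comap_of_surjective _ (Ideal.Quotient.mk_surjective (I := Module.annihilator G M)) P]
    exact Or.resolve_left (Ideal.map_eq_top_or_isMaximal_of_surjective _ Ideal.Quotient.mk_surjective h2)
      (by rw [Ideal.map_comap_of_surjective _ Ideal.Quotient.mk_surjective P]; exact hP.ne_top)
  refine isFiniteLength_iff_isNoetherian_isArtinian.mpr ⟨inferInstance, ?_⟩
  letI : Module (G ⧸ Module.annihilator G M) M :=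
    Module.IsTorsionBySet.module (I := Module.annihilator G M) fun z a => Module.mem_annihilator.mp a.2 z
  haveI : IsScalarTower G (G ⧸ Module.annihilator G M) M :=
    Module.IsTorsionBySet.isScalarTower (I := Module.annihilator G M) fun z a => Module.mem_annihilator.mp a.2 z
  haveI : Module.Finite (G ⧸ Module.annihilator G M) M := Module.Finite.of_restrictScalars_finite G _ _
  haveI : IsArtinian (G ⧸ Module.annihilator G M) M := inferInstance
  exact isArtinian_of_surjective_algebraMap (S := G) (R := G ⧸ Module.annihilator G M) (M := M) Ideal.Quotient.mk_surjective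

end Groth.Agent.H24Filt
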