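import Groth.Agent.H24Filt.PureCM
import Mathlib.AlgebraicGeometry.ProjectiveSpectrum.Scheme
import Mathlib.RingTheory.GradedAlgebra.HomogeneousLocalization
import Mathlib.RingTheory.GradedAlgebra.Radical
import Mathlib.RingTheory.Ideal.AssociatedPrime.Localization
import Mathlib.RingTheory.Ideal.MinimalPrime.Localization

/-! The degree zero part of a localized graded ring is a pure subring. -/

universe u

open IsLocalRing

set_option linter.style.haveILetI false

namespace Groth.Agent.H24Filt.ProjStalk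

variable {A : Type u} [CommRing A] (𝒜 : ℕ → AddSubgroup A) [GradedRing 𝒜] (p : Ideal A) [p.IsPrime]

local notation "R0" => HomogeneousLocalization.AtPrime 𝒜 p
local notation "Ap" => Localization.AtPrime p

theorem coe_decompose_congr {i j : ℕ} {c : A} (e : i = j) :
    (DirectSum.decompose 𝒜 c i : A) = DirectSum.decompose 𝒜 c j := by subst e; rfl

/-- Numerators all of whose homogeneous multiples land in `I`. -/
def num (I : Ideal R0) : Ideal A where
  carrier := {c | ∀ (i j : ℕ) (h d : A), h ∈ 𝒜 j → d ∈ 𝒜 (i + j) → ∀ hdp : d ∉ p,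
    ∃ z ∈ I, z.val = Localization.mk ((DirectSum.decompose 𝒜 c i : A) * h) (⟨d, hdp⟩ : p.primeCompl)}
  add_mem' := fun {a b} ha hb i j h d hh hd hdp => by
    obtain ⟨z, hz, hz'⟩ := ha i j h d hh hd hdp
    obtain ⟨w, hw, hw'⟩ := hb i j h d hh hd hdp
    refine ⟨z + w, add_mem hz hw, ?_⟩
    rw [HomogeneousLocalization.val_add, hz', hw', Localization.add_mk_self]
    congr 1
    rw [DirectSum.decompose_add, DirectSum.add_apply, AddMemClass.coe_add, add_mul]
  zero_mem' := fun i j h d hh hd hdp => ⟨0, zero_mem I, by simp [Localization.mk_zero]⟩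
  smul_mem' := fun a c hc => by
    classical
    induction a using DirectSum.Decomposition.inductionOn 𝒜 with
    | zero => exact fun i j h d hh hd hdp => ⟨0, zero_mem I, by simp [Localization.mk_zero]⟩
    | @homogeneous k m =>
      intro i j h d hh hd hdp
      rw [smul_eq_mul]
      by_cases hle : k ≤ i
      · obtain ⟨l, rfl⟩ := Nat.exists_eq_add_of_le hle
        have hd' : d ∈ 𝒜 (l + (k + j)) := by rwa [← add_assoc, add_comm l k]
        obtain ⟨z, hz, hz'⟩ := hc l (k + j) ((m : A) * h) d (SetLike.mul_mem_graded m.2 hh) hd' hdp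
        refine ⟨z, hz, hz'.trans ?_⟩
        congr 1
        rw [DirectSum.coe_decompose_mul_of_left_mem_of_le 𝒜 m.2 hle,
          coe_decompose_congr 𝒜 (c := c) (Nat.add_sub_cancel_left (n := k) (m := l))]
        ring
      · exact ⟨0, zero_mem I, by
          rw [DirectSum.coe_decompose_mul_of_left_mem_of_not_le 𝒜 m.2 hle, zero_mul, Localization.mk_zero,
            HomogeneousLocalization.val_zero]⟩
    | add x y hx hy =>
      intro i j h d hh hd hdp
      obtain ⟨z, hz, hz'⟩ := hx i j h d hh hd hdp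
      obtain ⟨w, hw, hw'⟩ := hy i j h d hh hd hdp
      refine ⟨z + w, add_mem hz hw, ?_⟩
      rw [HomogeneousLocalization.val_add, hz', hw', Localization.add_mk_self]
      congr 1
      rw [add_smul, DirectSum.decompose_add, DirectSum.add_apply, AddMemClass.coe_add, add_mul]

theorem val_eq (z : R0) : algebraMap R0 Ap z = z.val := rfl

theorem idealPure : PureCM.IdealPure (algebraMap R0 Ap) := by
  classical
  intro I
  refine le_antisymm (fun z hz => ?_) Ideal.le_comap_map
  have hle : I.map (algebraMap R0 Ap) ≤ (num 𝒜 p I).map (algebraMap A Ap) := by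
    refine Ideal.map_le_iff_le_comap.mpr fun y hy => ?_
    obtain ⟨⟨i, ⟨β, hβ⟩, ⟨τ, hτ⟩, hτp⟩, rfl⟩ := HomogeneousLocalization.mk_surjective y
    rw [Ideal.mem_comap, val_eq, HomogeneousLocalization.val_mk, Localization.mk_eq_mk', IsLocalization.mk'_eq_mul_mk'_one]
    refine Ideal.mul_mem_right _ _ (Ideal.mem_map_of_mem _ ?_)
    intro l j h d hh hd hdp
    by_cases hl : i = l
    · subst hl
      refine ⟨_, I.mul_mem_right (HomogeneousLocalization.mk ⟨i + j, ⟨τ * h, SetLike.mul_mem_graded hτ hh⟩,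
        ⟨d, hd⟩, hdp⟩) hy, ?_⟩
      rw [HomogeneousLocalization.val_mul, HomogeneousLocalization.val_mk,
        HomogeneousLocalization.val_mk, Localization.mk_mul, Localization.mk_eq_mk_iff, Localization.r_iff_exists]
      refine ⟨1, ?_⟩
      simp only [Submonoid.coe_mul, OneMemClass.coe_one, one_mul, DirectSum.decompose_of_mem_same 𝒜 hβ]
      ring
    · exact ⟨0, zero_mem I, by simp [DirectSum.decompose_of_mem_ne 𝒜 hβ hl, Localization.mk_zero]⟩
  have hz' := hle hz
  obtain ⟨⟨i, ⟨α, hα⟩, ⟨σ, hσ⟩, hσp⟩, rfl⟩ := HomogeneousLocalization.mk_surjective z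
  rw [val_eq, HomogeneousLocalization.val_mk, Localization.mk_eq_mk', IsLocalization.mk'_mem_map_algebraMap_iff] at hz'
  obtain ⟨t, ht, hta⟩ := hz'
  obtain ⟨e, he⟩ : ∃ e, (DirectSum.decompose 𝒜 t e : A) ∉ p := by
    by_contra hcon
    push Not at hcon
    refine ht ?_
    rw [← DirectSum.sum_support_decompose 𝒜 t]
    exact sum_mem fun k _ => hcon k
  obtain ⟨w, hw, hw'⟩ := hta (e + i) 0 1 ((DirectSum.decompose 𝒜 t e : A) * σ) (SetLike.one_mem_graded 𝒜)
    (by rw [add_zero]; exact SetLike.mul_mem_graded (DirectSum.decompose 𝒜 t e).2 hσ) (fun h => (‹p.IsPrime›.mem_or_mem h).elim he hσp)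
  convert hw using 1
  refine HomogeneousLocalization.val_injective _ ?_
  rw [hw', HomogeneousLocalization.val_mk, Localization.mk_eq_mk_iff, Localization.r_iff_exists]
  refine ⟨1, ?_⟩
  simp only [OneMemClass.coe_one, one_mul, mul_one, DirectSum.coe_decompose_mul_add_of_right_mem 𝒜 hα]
  ring

instance : IsLocalHom (algebraMap R0 Ap) :=
  ⟨fun z hz => (HomogeneousLocalization.isUnit_iff_isUnit_val 𝒜 p z).mp hz⟩

variable {p}

theorem pow_mem_map {s : A} {δ : ℕ} (hs : s ∈ 𝒜 δ) (hsp : s ∉ p) {a : A} {i : ℕ} (ha : a ∈ 𝒜 i)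
    {Q : Ideal Ap} [Q.IsPrime] {J : Ideal R0} (hJ : J ≤ Q.comap (algebraMap R0 Ap))
    (hmem : ∀ z : R0, z.val = Localization.mk (a ^ δ)
      (⟨s ^ i, fun h => hsp (‹p.IsPrime›.mem_of_pow_mem i h)⟩ : p.primeCompl) → z ∈ J) :
    algebraMap A Ap a ∈ Q := by
  have h1 := hJ (hmem (HomogeneousLocalization.mk ⟨δ * i, ⟨a ^ δ, by simpa using SetLike.pow_mem_graded δ ha⟩,
      ⟨s ^ i, by simpa [mul_comm] using SetLike.pow_mem_graded i hs⟩,
      fun h => hsp (‹p.IsPrime›.mem_of_pow_mem i h)⟩) (HomogeneousLocalization.val_mk _))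
  rw [Ideal.mem_comap, val_eq, HomogeneousLocalization.val_mk, Localization.mk_eq_mk',
    IsLocalization.mk'_eq_mul_mk'_one, Ideal.mul_unit_mem_iff_mem] at h1
  · rw [map_pow] at h1
    exact ‹Q.IsPrime›.mem_of_pow_mem δ h1
  · exact IsUnit.of_mul_eq_one (algebraMap A Ap (s ^ i)) (IsLocalization.mk'_spec _ _ _ |>.trans (map_one _))

theorem maximal_le_radical {s : A} {δ : ℕ} (hs : s ∈ 𝒜 δ) (hδ : 0 < δ) (hsp : s ∉ p) (hp : p.IsHomogeneous 𝒜) :
    maximalIdeal Ap ≤ ((maximalIdeal R0).map (algebraMap R0 Ap)).radical := by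
  classical
  rw [Ideal.radical_eq_sInf]
  refine le_sInf fun Q hQ => ?_
  haveI := hQ.2
  rw [← Localization.AtPrime.map_eq_maximalIdeal, Ideal.map_le_iff_le_comap]
  intro a ha
  rw [← DirectSum.sum_support_decompose 𝒜 a]
  refine sum_mem fun i _ => ?_
  refine pow_mem_map 𝒜 hs hsp (DirectSum.decompose 𝒜 a i).2 (J := maximalIdeal R0)
    (Ideal.map_le_iff_le_comap.mp hQ.1) ?_
  intro z hz
  rw [mem_maximalIdeal, mem_nonunits_iff, ← HomogeneousLocalization.isUnit_iff_isUnit_val, hz,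
    Localization.mk_eq_mk', ← mem_nonunits_iff, ← mem_maximalIdeal, IsLocalization.AtPrime.mk'_mem_maximal_iff Ap p]
  exact Ideal.pow_mem_of_mem p (hp i ha) δ hδ

theorem comap_le_of_minimal {s : A} {δ : ℕ} (hs : s ∈ 𝒜 δ) (hδ : 0 < δ) (hsp : s ∉ p)
    {Q Q' : Ideal Ap} (hQ' : Q' ∈ minimalPrimes Ap) [Q.IsPrime]
    (h : Q'.comap (algebraMap R0 Ap) ≤ Q.comap (algebraMap R0 Ap)) : Q' ≤ Q := by
  classical
  haveI : Q'.IsPrime := hQ'.1.1
  have hmin : Q'.comap (algebraMap A Ap) ∈ minimalPrimes A := by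
    refine ⟨⟨inferInstance, bot_le⟩, fun P hP hle => ?_⟩
    haveI := hP.1
    have hPp : P ≤ p := hle.trans (Ideal.comap_mono (IsLocalRing.le_maximalIdeal ‹Q'.IsPrime›.ne_top) |>.trans
      Localization.AtPrime.under_maximalIdeal.le)
    have hd : Disjoint (p.primeCompl : Set A) (P : Set A) :=
      Set.disjoint_left.mpr fun x hx hxP => hx (hPp hxP)
    have h1 : P.map (algebraMap A Ap) ≤ Q' := Ideal.map_le_iff_le_comap.mpr hle
    have h2 := hQ'.2 ⟨IsLocalization.isPrime_of_isPrime_disjoint p.primeCompl Ap P inferInstance hd, bot_le⟩ h1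
    refine (Ideal.comap_mono h2).trans ?_
    exact (IsLocalization.under_map_of_isPrime_disjoint p.primeCompl Ap inferInstance hd).le
  have hcore : (Q'.comap (algebraMap A Ap)).homogeneousCore 𝒜 = _ := rfl
  have hhom : (Q'.comap (algebraMap A Ap)).IsHomogeneous 𝒜 := by
    have h1 := Ideal.IsPrime.homogeneousCore (𝒜 := 𝒜) hmin.1.1
    have h2 : Q'.comap (algebraMap A Ap) ≤ ((Q'.comap (algebraMap A Ap)).homogeneousCore 𝒜).toIdeal :=
      hmin.2 ⟨h1, bot_le⟩ (Ideal.toIdeal_homogeneousCore_le _ _)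
    rw [le_antisymm h2 (Ideal.toIdeal_homogeneousCore_le _ _)]
    exact HomogeneousIdeal.isHomogeneous _
  intro x hx
  obtain ⟨a, t, rfl⟩ := IsLocalization.exists_mk'_eq p.primeCompl x
  have ha : a ∈ Q'.comap (algebraMap A Ap) := by
    rw [Ideal.mem_comap, ← IsLocalization.mk'_spec Ap a t]
    exact Ideal.mul_mem_right _ _ hx
  rw [IsLocalization.mk'_eq_mul_mk'_one]
  refine Ideal.mul_mem_right _ _ ?_
  rw [← DirectSum.sum_support_decompose 𝒜 a, map_sum]
  refine sum_mem fun i _ => ?_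
  refine pow_mem_map 𝒜 hs hsp (DirectSum.decompose 𝒜 a i).2 (J := Q'.comap (algebraMap R0 Ap)) h ?_
  intro z hz
  rw [Ideal.mem_comap, val_eq, hz, Localization.mk_eq_mk', IsLocalization.mk'_eq_mul_mk'_one]
  refine Ideal.mul_mem_right _ _ ?_
  rw [map_pow]
  exact Ideal.pow_mem_of_mem _ (Ideal.mem_comap.mp (hhom i ha)) δ hδ

omit [GradedRing 𝒜] in
theorem associated_minimal_of_pure {R S : Type u} [CommRing R] [CommRing S] [IsNoetherianRing S] {f : R →+* S}
    (hf : PureCM.IdealPure f) (hS : ∀ Q ∈ associatedPrimes S S, Q ∈ minimalPrimes S)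
    (H : ∀ Q Q' : Ideal S, Q ∈ minimalPrimes S → Q' ∈ minimalPrimes S → Q'.comap f ≤ Q.comap f → Q' ≤ Q) :
    ∀ q ∈ associatedPrimes R R, q ∈ minimalPrimes R := by
  haveI := hf.isNoetherianRing
  intro q hq
  obtain ⟨hqp, z, hz⟩ := isAssociatedPrime_iff.mp hq
  haveI := hqp
  let N : Submodule S S := Submodule.span S {f z}
  have hJ : (Module.annihilator S N).comap f = q := by
    ext r
    rw [hz, Submodule.mem_colon_singleton, Submodule.mem_bot, Ideal.mem_comap, smul_eq_mul,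
      show Module.annihilator S N = N.annihilator from rfl, Submodule.mem_annihilator_span_singleton, smul_eq_mul,
      ← map_mul]
    exact map_eq_zero_iff f hf.injective
  obtain ⟨Q, hQ, hQq⟩ := Ideal.exists_minimalPrimes_comap_eq (I := Module.annihilator S N) f q
    (by rw [hJ, Ideal.minimalPrimes_eq_subsingleton_self]; rfl)
  have hQA : Q ∈ associatedPrimes S S :=
    associatedPrimes.subset_of_injective (f := N.subtype) N.injective_subtype
      (Module.associatedPrimes.minimalPrimes_annihilator_subset_associatedPrimes S N hQ)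
  have hQm := hS Q hQA
  refine ⟨⟨hqp, bot_le⟩, fun q0 hq0 hle => ?_⟩
  haveI := hq0.1
  obtain ⟨Q0, hQ0, hQ0q⟩ := Ideal.exists_minimalPrimes_comap_eq (I := q0.map f) f q0
    (by rw [hf q0, Ideal.minimalPrimes_eq_subsingleton_self]; rfl)
  haveI := hQ0.1.1
  obtain ⟨Q', hQ', hQ'Q0⟩ := Ideal.exists_minimalPrimes_le (bot_le : (⊥ : Ideal S) ≤ Q0)
  have h1 : Q'.comap f ≤ q0 := (Ideal.comap_mono hQ'Q0).trans hQ0q.le
  have h2 : Q' ≤ Q := H Q Q' hQm hQ' (h1.trans (hle.trans hQq.ge))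
  have h3 : Q ≤ Q' := hQm.2 hQ'.1 h2
  exact hQq.ge.trans ((Ideal.comap_mono h3).trans h1)


open AlgebraicGeometry in
theorem exists_posHom {A : Type u} [CommRing A] (𝒜 : ℕ → AddSubgroup A)
    [GradedRing 𝒜] (x : ProjectiveSpectrum 𝒜) :
    ∃ (δ : ℕ) (s : A), 0 < δ ∧ s ∈ 𝒜 δ ∧ s ∉ x.asHomogeneousIdeal.toIdeal := by
  classical
  obtain ⟨a, ha, hax⟩ := SetLike.not_le_iff_exists.mp x.not_irrelevant_le
  obtain ⟨i, hi⟩ : ∃ i, (DirectSum.decompose 𝒜 a i : A) ∉ x.asHomogeneousIdeal.toIdeal := by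
    by_contra hcon
    push Not at hcon
    refine hax ?_
    change a ∈ x.asHomogeneousIdeal.toIdeal
    rw [← DirectSum.sum_support_decompose 𝒜 a]
    exact sum_mem fun k _ => hcon k
  refine ⟨i, _, Nat.pos_of_ne_zero fun h0 => hi ?_, (DirectSum.decompose 𝒜 a i).2, hi⟩
  subst h0
  have : (DirectSum.decompose 𝒜 a 0 : A) = 0 := by
    have := ha
    simpa [HomogeneousIdeal.mem_irrelevant_iff, GradedRing.proj_apply] using this
  rw [this]; exact zero_mem _

end Groth.Agent.H24Filt.ProjStalk
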