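import Groth.Agent.H4Depth.LocDepth
import Groth.Agent.H4Depth.CM
import Groth.Agent.H4Depth.IdealDepth
import Groth.Agent.H4Depth.DepthLemmas
import Groth.Agent.H1CAlg.Serre

/-! Cohen-Macaulayness and the condition S1 descend to pure subrings. -/

universe u

open IsLocalRing RingTheory.Sequence
open scoped Pointwise

set_option linter.style.haveILetI false

namespace Groth.Agent.H24Filt.PureCM

theorem le_of_add_le_succ {a d : ℕ∞} {n : ℕ} (h : ((n + 1 : ℕ) : ℕ∞) ≤ d) (e : a + 1 = d) : (n : ℕ∞) ≤ a := by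
  rw [← e, Nat.cast_add, Nat.cast_one] at h
  exact (WithTop.add_le_add_iff_right ENat.one_ne_top).mp h

theorem eq_zero_of_add_natCast {x : WithBot ℕ∞} {n : ℕ} (h : x + n = ((n : ℕ∞) : WithBot ℕ∞)) : x = 0 := by
  induction x using WithBot.recBotCoe with
  | bot => exact absurd h (by simp)
  | coe a =>
    have h' : a + (n : ℕ∞) = (n : ℕ∞) := by exact_mod_cast h
    have h0 : a = 0 := (WithTop.add_right_inj (ENat.natCast_ne_top n)).mp (h'.trans (zero_add _).symm)
    rw [h0]; rfl

/-- Every ideal is the contraction of its extension. -/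
def IdealPure {R S : Type u} [CommRing R] [CommRing S] (f : R →+* S) : Prop :=
  ∀ I : Ideal R, (I.map f).comap f = I

variable {R S : Type u} [CommRing R] [CommRing S] {f : R →+* S}

theorem IdealPure.injective (hf : IdealPure f) : Function.Injective f := by
  rw [RingHom.injective_iff_ker_eq_bot]
  exact (show RingHom.ker f = (Ideal.map f ⊥).comap f by rw [Ideal.map_bot]; rfl).trans (hf ⊥)

theorem IdealPure.isNoetherianRing (hf : IdealPure f) [IsNoetherianRing S] : IsNoetherianRing R := by
  rw [isNoetherianRing_iff, isNoetherian_iff']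
  refine StrictMono.wellFoundedGT (f := fun I : Ideal R => I.map f) fun I J h => ?_
  refine lt_of_le_of_ne (Ideal.map_mono h.le) fun he => h.ne ?_
  rw [← hf I, ← hf J]
  exact congrArg (Ideal.comap f) he

theorem exists_regular [IsLocalRing S] [IsNoetherianRing S] (m : Ideal R)
    (hm : maximalIdeal S ≤ (m.map f).radical) (hm' : m ≤ (maximalIdeal S).comap f) (n : ℕ) (M : Type u) [AddCommGroup M] [Module S M]
    [Module.Finite S M] [Nontrivial M] (hn : (n : ℕ∞) ≤ LocCoh.depth S M) :
    ∃ rs : List R, rs.length = n ∧ (∀ r ∈ rs, r ∈ m ∧ f r ∈ maximalIdeal S) ∧ IsWeaklyRegular M (rs.map f) := by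
  induction n generalizing M with
  | zero => exact ⟨[], rfl, fun _ h => absurd h List.not_mem_nil, IsWeaklyRegular.nil S M⟩
  | succ n ih =>
    have hne : maximalIdeal S • (⊤ : Submodule S M) ≠ ⊤ :=
      fun h => Submodule.top_ne_ideal_smul_of_le_jacobson_annihilator
        (maximalIdeal_le_jacobson _) h.symm
    obtain ⟨rs, hlen, hmem, hreg⟩ := (H4Depth.le_idealDepth_iff_exists hne (n := 1)).mp
      ((by exact_mod_cast Nat.succ_le_succ (Nat.zero_le n) : ((1 : ℕ) : ℕ∞) ≤ ((n + 1 : ℕ) : ℕ∞)).trans hn)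
    obtain ⟨r, rfl⟩ := List.length_eq_one_iff.mp hlen
    have hr : r ∈ maximalIdeal S := hmem r (List.mem_singleton_self r)
    have hr' : IsSMulRegular M r := ((isWeaklyRegular_cons_iff M r []).mp hreg).1
    have hfin := associatedPrimes.finite S M
    have : ¬ (m : Set R) ⊆ ⋃ Q ∈ (hfin.toFinset : Set (Ideal S)), ((Q.comap f : Ideal R) : Set R) := by
      rw [Ideal.subset_union_prime (maximalIdeal S) (maximalIdeal S) (fun Q hQ _ _ =>
        haveI := (hfin.mem_toFinset.mp hQ).isPrime; Ideal.IsPrime.comap f)]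
      rintro ⟨Q, hQ, hle⟩
      have hQ' := hfin.mem_toFinset.mp hQ
      haveI := hQ'.isPrime
      have h1 : maximalIdeal S ≤ Q := hm.trans ((Ideal.radical_mono (Ideal.map_le_iff_le_comap.mpr hle)).trans
        (Ideal.IsPrime.radical (I := Q) inferInstance).le)
      have h3 : r ∈ Q := h1 hr
      have h4 : r ∈ ({r : S | IsSMulRegular M r}ᶜ : Set S) := by
        rw [← biUnion_associatedPrimes_eq_compl_regular]
        exact Set.mem_biUnion hQ' h3
      exact h4 hr'
    obtain ⟨x, hx, hxQ⟩ := Set.not_subset.mp this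
    have hxr : IsSMulRegular M (f x) := by
      by_contra h
      have h4 : f x ∈ ({r : S | IsSMulRegular M r}ᶜ : Set S) := h
      rw [← biUnion_associatedPrimes_eq_compl_regular] at h4
      obtain ⟨Q, hQ, hxQ'⟩ := Set.mem_iUnion₂.mp h4
      exact hxQ (Set.mem_biUnion (hfin.mem_toFinset.mpr hQ) hxQ')
    have hd : (n : ℕ∞) ≤ LocCoh.depth S (QuotSMulTop (f x) M) :=
      le_of_add_le_succ hn (H4Depth.idealDepth_quotSMulTop_add_one (M := M) (I := maximalIdeal S) (hm' hx) hxr)
    haveI : Nontrivial (QuotSMulTop (f x) M) := by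
      have h2 : f x • (⊤ : Submodule S M) ≤ maximalIdeal S • (⊤ : Submodule S M) :=
        (Submodule.ideal_span_singleton_smul (f x) (⊤ : Submodule S M)).symm.le.trans
          (Submodule.smul_mono_left ((Ideal.span_singleton_le_iff_mem _).mpr (hm' hx)))
      exact Submodule.Quotient.nontrivial_iff.mpr fun h => hne (top_le_iff.mp (h.symm.le.trans h2))
    obtain ⟨rs, hlen, hmem, hreg⟩ := ih (QuotSMulTop (f x) M) hd
    exact ⟨x :: rs, by rw [List.length_cons, hlen], List.forall_mem_cons.mpr ⟨⟨hx, hm' hx⟩, hmem⟩,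
      (isWeaklyRegular_cons_iff M (f x) (rs.map f)).mpr ⟨hxr, hreg⟩⟩

theorem isWeaklyRegular_of_pure (hf : IdealPure f) {rs : List R} (h : IsWeaklyRegular S (rs.map f)) :
    IsWeaklyRegular R rs := by
  rw [isWeaklyRegular_iff] at h ⊢
  intro i hi
  rw [isSMulRegular_quotient_iff_mem_of_smul_mem]
  intro z hz
  simp only [smul_eq_mul, Ideal.mul_top] at hz ⊢
  have h1 := (isSMulRegular_quotient_iff_mem_of_smul_mem _ _).mp (h i (by rw [List.length_map]; exact hi)) (f z)
  simp only [smul_eq_mul, Ideal.mul_top, ← List.map_take, ← Ideal.map_ofList, List.getElem_map, ← map_mul] at h1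
  rw [← hf (Ideal.ofList _)]
  exact Ideal.mem_comap.mpr (h1 (Ideal.mem_map_of_mem f hz))

theorem isCM_of_pure [IsLocalRing R] [LocCoh.IsCohenMacaulayLocalRing S] [IsLocalHom f] (hf : IdealPure f)
    (hm : maximalIdeal S ≤ ((maximalIdeal R).map f).radical) : LocCoh.IsCohenMacaulayLocalRing R := by
  haveI : IsNoetherianRing R := hf.isNoetherianRing
  have hS := LocCoh.IsCohenMacaulayLocalRing.supportDim_eq_depth (R := S)
  rw [Module.supportDim_self_eq_ringKrullDim] at hS
  obtain ⟨n, hn⟩ : ∃ n : ℕ, LocCoh.depth S S = n := by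
    have hne : LocCoh.depth S S ≠ ⊤ := fun h => by
      rw [h] at hS
      exact ne_of_lt ringKrullDim_lt_top (hS.trans rfl)
    obtain ⟨n, hn⟩ := ENat.ne_top_iff_exists.mp hne
    exact ⟨n, hn.symm⟩
  obtain ⟨rs, hlen, hmem, hreg⟩ := exists_regular (maximalIdeal R) hm (fun x hx => map_nonunit f x hx) n S hn.ge
  have hdepth : (n : ℕ∞) ≤ LocCoh.depth R R :=
    hlen ▸ H4Depth.length_le_idealDepth (isWeaklyRegular_of_pure hf hreg) fun r hr => (hmem r hr).1
  have hJ : (maximalIdeal R) ≤ (Ideal.ofList rs).radical := by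
    have hJS : maximalIdeal S ≤ (Ideal.ofList (rs.map f)).radical := by
      by_cases hl : n = 0
      · rw [Ideal.radical_eq_sInf]
        refine le_sInf fun Q hQ => ?_
        haveI := hQ.2
        have h0 : ringKrullDim S ≤ 0 := by rw [hS, hn, hl]; rfl
        have : Ring.KrullDimLE 0 S := Ring.krullDimLE_iff.mpr (by exact_mod_cast h0)
        exact (IsLocalRing.eq_maximalIdeal (Ideal.IsPrime.isMaximal' hQ.2)).ge
      · have hreg' : IsRegular S (rs.map f) := by
          refine ⟨hreg, ?_⟩
          rw [smul_eq_mul, Ideal.mul_top]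
          intro h
          have : Ideal.ofList (rs.map f) ≤ maximalIdeal S := Ideal.span_le.mpr fun s hs => by
            obtain ⟨r, hr, rfl⟩ := List.mem_map.mp hs
            exact (hmem r hr).2
          exact (maximalIdeal.isMaximal S).ne_top (top_le_iff.mp (h.le.trans this))
        have h0 := Module.supportDim_add_length_eq_supportDim_of_isRegular (R := S) (rs.map f) hreg'
        rw [Module.supportDim_self_eq_ringKrullDim, hS, hn, List.length_map, hlen, smul_eq_mul, Ideal.mul_top,
          Module.supportDim_quotient_eq_ringKrullDim] at h0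
        have h1 : ringKrullDim (S ⧸ Ideal.ofList (rs.map f)) = 0 := by
          exact eq_zero_of_add_natCast h0
        rw [Ideal.radical_eq_sInf]
        refine le_sInf fun Q hQ => ?_
        haveI := hQ.2
        haveI : Ring.KrullDimLE 0 (S ⧸ Ideal.ofList (rs.map f)) :=
          Ring.krullDimLE_iff.mpr (by exact_mod_cast h1.le)
        have hk : RingHom.ker (Ideal.Quotient.mk (Ideal.ofList (rs.map f))) ≤ Q := by
          rw [Ideal.mk_ker]; exact hQ.1
        haveI hp : (Q.map (Ideal.Quotient.mk (Ideal.ofList (rs.map f)))).IsPrime :=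
          Ideal.map_isPrime_of_surjective Ideal.Quotient.mk_surjective hk
        haveI := Ideal.IsPrime.isMaximal' hp
        have hQmax : Q.IsMaximal := by
          have := Ideal.comap_isMaximal_of_surjective (Ideal.Quotient.mk (Ideal.ofList (rs.map f)))
            Ideal.Quotient.mk_surjective (K := Q.map (Ideal.Quotient.mk _))
          rwa [Ideal.comap_map_of_surjective _ Ideal.Quotient.mk_surjective, ← RingHom.ker_eq_comap_bot,
            sup_eq_left.mpr hk] at this
        exact (IsLocalRing.eq_maximalIdeal hQmax).ge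
    intro x hx
    obtain ⟨N, hN⟩ := Ideal.mem_radical_iff.mp (hJS (map_nonunit f x hx))
    exact Ideal.mem_radical_iff.mpr ⟨N, by
      rw [← hf (Ideal.ofList rs), Ideal.mem_comap, Ideal.map_ofList, map_pow]; exact hN⟩
  have hmin : maximalIdeal R ∈ (Ideal.ofList rs).minimalPrimes := by
    refine ⟨⟨inferInstance, Ideal.span_le.mpr fun r hr => (hmem r hr).1⟩, fun Q hQ _ => ?_⟩
    haveI := hQ.1
    exact hJ.trans ((Ideal.radical_mono hQ.2).trans (Ideal.IsPrime.radical hQ.1).le)
  have hh : (maximalIdeal R).height ≤ n := by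
    classical
    refine (Ideal.height_le_card_of_mem_minimalPrimes_span_finset (s := rs.toFinset) ?_).trans ?_
    · simpa [Ideal.ofList] using hmin
    · rw [← hlen]; exact_mod_cast rs.toFinset_card_le
  refine { supportDim_eq_depth := ?_ }
  rw [Module.supportDim_self_eq_ringKrullDim]
  refine le_antisymm ?_ ?_
  · rw [← IsLocalRing.maximalIdeal_height_eq_ringKrullDim]
    exact WithBot.coe_le_coe.mpr (hh.trans hdepth)
  · rw [← Module.supportDim_self_eq_ringKrullDim]
    exact H4Depth.depth_le_supportDim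


theorem isCM_of_ringEquiv [LocCoh.IsCohenMacaulayLocalRing R] (e : R ≃+* S) :
    LocCoh.IsCohenMacaulayLocalRing S := by
  haveI : IsLocalRing S := e.isLocalRing
  haveI : IsLocalHom e.symm.toRingHom := ⟨fun a h => by
    have := h.map e.toRingHom
    simpa using this⟩
  refine isCM_of_pure (f := e.symm.toRingHom) (fun I => ?_) ?_
  · exact Ideal.comap_map_of_bijective _ e.symm.bijective
  · refine le_trans ?_ Ideal.le_radical
    intro r hr
    have : e.symm.toRingHom (e r) ∈ (maximalIdeal S).map e.symm.toRingHom :=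
      Ideal.mem_map_of_mem _ ((mem_maximalIdeal _).mpr fun hu =>
        (mem_maximalIdeal r).mp hr (by simpa using hu.map e.symm.toRingHom))
    simpa using this

theorem localization_associated_minimal [IsNoetherianRing R] (p : Ideal R) [p.IsPrime]
    (h : ∀ q ∈ associatedPrimes R R, q ∈ minimalPrimes R) :
    ∀ Q ∈ associatedPrimes (Localization.AtPrime p) (Localization.AtPrime p),
      Q ∈ minimalPrimes (Localization.AtPrime p) := by
  intro Q hQ
  have hq : Q.comap (algebraMap R (Localization.AtPrime p)) ∈ associatedPrimes R R :=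
    Module.associatedPrimes.comap_mem_associatedPrimes_of_mem_associatedPrimes_of_isLocalizedModule_of_fg
      p.primeCompl (Algebra.linearMap R (Localization.AtPrime p)) Q hQ (IsNoetherian.noetherian _)
  refine ⟨⟨hQ.isPrime, bot_le⟩, fun P hP hle => ?_⟩
  haveI := hP.1
  have h2 := (h _ hq).2 ⟨Ideal.IsPrime.comap _, bot_le⟩ (Ideal.comap_mono hle)
  exact (IsLocalization.map_under p.primeCompl _ Q).ge.trans
    ((Ideal.map_mono h2).trans (IsLocalization.map_under p.primeCompl _ P).le)

theorem hasSk_one_of_ringEquiv [IsNoetherianRing R] (e : R ≃+* S)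
    (h : ∀ q ∈ associatedPrimes R R, q ∈ minimalPrimes R) : LocCoh.HasSk 1 S S := by
  haveI : IsNoetherianRing S := isNoetherianRing_of_ringEquiv R e
  refine H1CAlg.hasSk_one_self_iff.mpr fun Q hQ => ?_
  obtain ⟨hQp, z, hz⟩ := isAssociatedPrime_iff.mp hQ
  have hq : Q.comap e.toRingHom ∈ associatedPrimes R R := by
    refine isAssociatedPrime_iff.mpr ⟨hQp.comap _, e.symm z, ?_⟩
    ext r
    rw [Ideal.mem_comap, hz, Submodule.mem_colon_singleton, Submodule.mem_bot, Submodule.mem_colon_singleton,
      Submodule.mem_bot, smul_eq_mul, smul_eq_mul, ← map_eq_zero_iff e.toRingHom e.injective]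
    simp
  refine ⟨⟨hQp, bot_le⟩, fun P hP hle y hy => ?_⟩
  haveI := hP.1
  obtain ⟨r, rfl⟩ := e.surjective y
  exact (h _ hq).2 ⟨Ideal.IsPrime.comap e.toRingHom, bot_le⟩ (Ideal.comap_mono hle) hy

end Groth.Agent.H24Filt.PureCM
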