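import Mathlib
import Groth.Agent.H24Filt.ExtRees

/-!
# `(S_2)` passes from the extended Rees algebra to the Rees algebra (helper24)
-/

set_option autoImplicit false
set_option linter.style.haveILetI false
universe u
open IsLocalRing Groth.Agent Polynomial LaurentPolynomial FiltBl
open scoped Pointwise
open Groth.Agent.H05EGA4 (RS RSLocal)

namespace Groth.Agent.H24Filt

/-- Transfer to a ring that agrees after inverting `f`. -/
theorem rsLocal_of_incl {r n : WithBot ℕ∞} {R R' : Type u} [CommRing R] [CommRing R'] [IsNoetherianRing R]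
    [IsNoetherianRing R'] (j : R →+* R') (hj : Function.Injective j) (f : R)
    (hsurj : ∀ x : R', ∃ (k : ℕ) (y : R), x * j f ^ k = j y) (h : RS r n R')
    (P : Ideal R) [hP : P.IsPrime] (hf : f ∉ P) : RSLocal r n (Localization.AtPrime P) := by
  let L := Localization.Away (j f)
  letI : Algebra R L := ((algebraMap R' L).comp j).toAlgebra
  haveI : IsLocalization (Submonoid.powers f) L :=
    { map_units := by
        rintro ⟨_, k, rfl⟩
        change IsUnit (algebraMap R' L (j (f ^ k)))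
        rw [map_pow]
        exact IsLocalization.map_units L (⟨j f ^ k, k, rfl⟩ : Submonoid.powers (j f))
      surj := fun z => by
        obtain ⟨⟨x, ⟨_, m, rfl⟩⟩, hz⟩ := IsLocalization.surj (Submonoid.powers (j f)) z
        obtain ⟨k, y, hy⟩ := hsurj x
        refine ⟨(y, ⟨f ^ (m + k), m + k, rfl⟩), ?_⟩
        change z * algebraMap R' L (j (f ^ (m + k))) = algebraMap R' L (j y)
        rw [← hy, map_pow, pow_add, map_mul, map_mul, ← mul_assoc]
        exact congrArg (· * algebraMap R' L (j f ^ k)) hz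
      exists_of_eq := fun {x y} hxy => by
        obtain ⟨⟨_, k, rfl⟩, hc⟩ := (IsLocalization.eq_iff_exists (Submonoid.powers (j f)) L).mp hxy
        refine ⟨⟨f ^ k, k, rfl⟩, hj ?_⟩
        simpa [map_mul, map_pow] using hc }
  have hdisj : Disjoint (Submonoid.powers f : Set R) (P : Set R) := by
    refine Set.disjoint_left.mpr ?_
    rintro _ ⟨k, rfl⟩ hk
    exact hf (hP.mem_of_pow_mem k hk)
  haveI := IsLocalization.isPrime_of_isPrime_disjoint (Submonoid.powers f) L P hP hdisj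
  have hc := IsLocalization.under_map_of_isPrime_disjoint (Submonoid.powers f) L hP hdisj
  exact (H05EGA4.rsLocal_congr hc).mp ((H05EGA4.rsLocal_localization_iff (Submonoid.powers f) L _).mp
    (h.of_isLocalization (Submonoid.powers (j f)) L _))

/-- `(S_2)` gives depth two along ideals of height two. -/
theorem two_le_idealDepth_of_rs {R : Type u} [CommRing R] [IsNoetherianRing R] (h : RS ⊥ (2 : WithBot ℕ∞) R)
    (I : Ideal R) (hI : ∀ p : Ideal R, p.IsPrime → I ≤ p → 2 ≤ p.height) : 2 ≤ LocCoh.idealDepth I R := by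
  rw [H4Depth.idealDepth_eq_iInf_depth_localization]
  refine le_iInf₂ fun p hp => ?_
  obtain ⟨e⟩ := H4Depth.exists_localizedModule_self_equiv (R := R) p.asIdeal
  rw [H4Depth.depth_congr e]
  have h1 := (h p.asIdeal).2
  rw [IsLocalization.AtPrime.ringKrullDim_eq_height p.asIdeal, min_eq_left] at h1
  · exact WithBot.coe_le_coe.mp h1
  · exact WithBot.coe_le_coe.mpr (hI p.asIdeal p.2 hp)

/-- An element regular modulo `a` inside an ideal of depth two. -/
theorem exists_regular_mod {R : Type u} [CommRing R] [IsNoetherianRing R] {I : Ideal R} {a : R} (ha : a ∈ I)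
    (hreg : IsSMulRegular R a) (h2 : 2 ≤ LocCoh.idealDepth I R) :
    ∃ x ∈ I, ∀ r : R, x * r ∈ Ideal.span {a} → r ∈ Ideal.span {a} := by
  by_cases htop : I = ⊤
  · exact ⟨1, htop ▸ Submodule.mem_top, fun r hr => by rwa [one_mul] at hr⟩
  have haI : a • (⊤ : Submodule R R) ≤ I := by
    intro z hz
    obtain ⟨w, -, rfl⟩ := (Submodule.mem_smul_pointwise_iff_exists z a _).mp hz
    exact I.mul_mem_right _ ha
  have hne : I • (⊤ : Submodule R (QuotSMulTop a R)) ≠ ⊤ := by
    intro h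
    apply htop
    have h1 : Submodule.map (a • (⊤ : Submodule R R)).mkQ (I • ⊤) = ⊤ := by
      rw [Submodule.map_smul'', Submodule.map_top, Submodule.range_mkQ]
      exact h
    have h2 : I • (⊤ : Submodule R R) = I := by rw [smul_eq_mul, Ideal.mul_top]
    rw [h2] at h1
    have h3 := congrArg (Submodule.comap (a • (⊤ : Submodule R R)).mkQ) h1
    rwa [Submodule.comap_map_mkQ, sup_eq_right.mpr haI, Submodule.comap_top] at h3
  have hd : 1 ≤ LocCoh.idealDepth I (QuotSMulTop a R) := by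
    rw [← H4Depth.idealDepth_quotSMulTop_add_one ha hreg, ← one_add_one_eq_two] at h2
    exact (ENat.add_le_add_iff_right ENat.one_ne_top).mp h2
  obtain ⟨x, hx, hxreg⟩ := (H4Depth.one_le_idealDepth_iff hne).mp hd
  refine ⟨x, hx, fun r hr => ?_⟩
  have hmem : ∀ z : R, z ∈ Ideal.span {a} ↔ z ∈ a • (⊤ : Submodule R R) := fun z => by
    rw [← Submodule.ideal_span_singleton_smul, smul_eq_mul, Ideal.mul_top]
  rw [hmem, ← Submodule.Quotient.mk_eq_zero] at hr ⊢
  rw [← smul_eq_mul, Submodule.Quotient.mk_smul] at hr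
  exact (isSMulRegular_iff_right_eq_zero_of_smul.mp hxreg) _ hr

namespace ExtRees

variable {A : Type u} [CommRing A] (𝓕 : IdealFiltration A)

theorem mem_range_reesIncl (x : 𝓕.extRees) (hx : ∀ n : ℤ, n < 0 → (x : A[T;T⁻¹]).coeff n = 0) :
    ∃ y : 𝓕.rees, reesIncl 𝓕 y = x := by
  have hx' : x = ∑ n ∈ (x : A[T;T⁻¹]).coeff.support, mono 𝓕 n ((x : A[T;T⁻¹]).coeff n) (x.2 n) := by
    refine Subtype.ext ?_
    rw [AddSubmonoidClass.coe_finsetSum]
    exact (sum_monomials (x : A[T;T⁻¹])).symm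
  change x ∈ (reesIncl 𝓕).range
  rw [hx']
  refine Subalgebra.sum_mem _ fun n hn => ?_
  have key : ∀ (m : ℤ) (a : A) (ha : a ∈ 𝓕.F m.toNat), 0 ≤ m → mono 𝓕 m a ha ∈ (reesIncl 𝓕).range := by
    intro m a ha hm
    lift m to ℕ using hm
    exact ⟨_, (mono_natCast 𝓕 m a ha).symm⟩
  exact key _ _ _ (le_of_not_gt fun h => Finsupp.mem_support_iff.mp hn (hx n h))

theorem coeff_reesIncl_of_neg (f : 𝓕.rees) {n : ℤ} (hn : n < 0) :
    ((reesIncl 𝓕 f : 𝓕.extRees) : A[T;T⁻¹]).coeff n = 0 := by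
  rw [coe_reesIncl]
  by_contra h
  have hm := Finsupp.mem_support_iff.mpr h
  rw [support_coeff_toLaurent, Finset.mem_map] at hm
  obtain ⟨m, -, rfl⟩ := hm
  exact absurd hn (by simp)

theorem isNoetherianRing_rees [IsNoetherianRing A] (hfg : Algebra.FiniteType A 𝓕.rees) :
    IsNoetherianRing 𝓕.rees :=
  haveI := hfg
  Algebra.FiniteType.isNoetherianRing A _

theorem hasS2_rees [IsNoetherianRing A] [Nontrivial A] (hsep : ⨅ n, 𝓕.F n = ⊥)
    (hfg : Algebra.FiniteType A 𝓕.rees) (hht : 2 ≤ (𝓕.F 1).height) (h : RS ⊥ (2 : WithBot ℕ∞) 𝓕.extRees) :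
    RS ⊥ (2 : WithBot ℕ∞) 𝓕.rees := by
  haveI := isNoetherianRing_extRees 𝓕 hfg
  haveI := isNoetherianRing_rees 𝓕 hfg
  haveI := isNoetherianRing_laurent (A := A)
  haveI := isLocalization_u 𝓕
  have hA : RS ⊥ (2 : WithBot ℕ∞) A :=
    H05EGA4.RS.of_faithfullyFlat (h.of_isLocalization (Submonoid.powers 𝓕.u) A[T;T⁻¹])
  intro P hP
  by_cases hpos : ∀ (n : ℕ) (a : A) (ha : a ∈ 𝓕.F n), 0 < n →
      (⟨Polynomial.monomial n a, monomial_mem_rees 𝓕 ha⟩ : 𝓕.rees) ∈ P
  swap
  · push Not at hpos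
    obtain ⟨n, a, ha, hn, haP⟩ := hpos
    refine rsLocal_of_incl (reesIncl 𝓕).toRingHom (reesIncl_injective 𝓕) _ (fun x => ?_) h P haP
    let k := (x : A[T;T⁻¹]).coeff.support.sup fun m => (-m).toNat
    have hneg : ∀ m : ℤ, m < 0 →
        ((x * (reesIncl 𝓕 ⟨Polynomial.monomial n a, monomial_mem_rees 𝓕 ha⟩) ^ k : 𝓕.extRees) :
          A[T;T⁻¹]).coeff m = 0 := by
      intro m hm
      rw [MulMemClass.coe_mul, SubmonoidClass.coe_pow, coe_reesIncl, Polynomial.toLaurent_C_mul_T, mul_pow,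
        ← map_pow, T_pow, ← mul_assoc, coeff_mul_T, mul_comm, ← LaurentPolynomial.smul_eq_C_mul,
        AddMonoidAlgebra.coeff_smul, Finsupp.smul_apply]
      have hzero : (x : A[T;T⁻¹]).coeff (m - (k : ℤ) * (n : ℤ)) = 0 := by
        by_contra h0
        have hle : (-(m - (k : ℤ) * (n : ℤ))).toNat ≤ k :=
          Finset.le_sup (f := fun m : ℤ => (-m).toNat) (Finsupp.mem_support_iff.mpr h0)
        have hkn : (k : ℤ) ≤ (k : ℤ) * (n : ℤ) := le_mul_of_one_le_right (by positivity) (by exact_mod_cast hn)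
        omega
      rw [hzero, smul_zero]
    obtain ⟨y, hy⟩ := mem_range_reesIncl 𝓕 _ hneg
    exact ⟨k, y, hy.symm⟩
  set q : Ideal A := P.comap (algebraMap A 𝓕.rees)
  by_cases hq : 𝓕.F 1 ≤ q
  swap
  · obtain ⟨a, ha, haq⟩ := SetLike.not_le_iff_exists.mp hq
    have hAX : RS ⊥ (2 : WithBot ℕ∞) A[X] := hA.of_flat fun p _ => by
      haveI := isRegularRing_fibre_polynomial p
      exact H05EGA4.rs_of_isRegularRing _
    refine rsLocal_of_incl 𝓕.rees.val.toRingHom Subtype.val_injective (algebraMap A 𝓕.rees a) (fun x => ?_)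
      hAX P haq
    refine ⟨x.natDegree, ⟨Polynomial.C (a ^ x.natDegree) * x, fun m => ?_⟩, ?_⟩
    · rw [Polynomial.coeff_C_mul]
      rcases le_or_gt m x.natDegree with hm | hm
      · exact Ideal.mul_mem_right _ _ (𝓕.antitone hm (pow_le 𝓕 _ (Ideal.pow_mem_pow ha _)))
      · rw [Polynomial.coeff_eq_zero_of_natDegree_lt hm, mul_zero]
        exact Ideal.zero_mem _
    · change x * (algebraMap A A[X] a) ^ _ = Polynomial.C (a ^ x.natDegree) * x
      rw [Polynomial.algebraMap_eq, ← map_pow, mul_comm]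
  have hq1 : 𝓕.F 1 ≠ ⊤ := F_one_ne_top 𝓕 hsep
  have hIM : 𝓕.F 1 • (⊤ : Submodule A A) ≠ ⊤ := by rwa [smul_eq_mul, Ideal.mul_top]
  have hd1 : 1 ≤ LocCoh.idealDepth (𝓕.F 1) A :=
    le_trans one_le_two (two_le_idealDepth_of_rs hA _ fun p _ hp => hht.trans (Ideal.height_mono hp))
  obtain ⟨a, ha, hareg⟩ := (H4Depth.one_le_idealDepth_iff hIM).mp hd1
  have haL : IsSMulRegular A[T;T⁻¹] (algebraMap A A[T;T⁻¹] a) :=
    isSMulRegular_iff_right_eq_zero_of_smul.mpr fun z hz => by
      refine LaurentPolynomial.ext fun m => ?_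
      rw [smul_eq_mul, ← Algebra.smul_def] at hz
      have h1 : (a • z).coeff m = 0 := by rw [hz]; rfl
      rw [AddMonoidAlgebra.coeff_smul, Finsupp.smul_apply] at h1
      exact (isSMulRegular_iff_right_eq_zero_of_smul.mp hareg) _ h1
  set a' : 𝓕.extRees := algebraMap A 𝓕.extRees a
  have ha'reg : IsSMulRegular 𝓕.extRees a' := by
    intro z w hzw
    refine Subtype.ext (haL ?_)
    have h1 := congrArg Subtype.val hzw
    exact h1
  have haR : IsSMulRegular 𝓕.rees (algebraMap A 𝓕.rees a) :=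
    isSMulRegular_iff_right_eq_zero_of_smul.mpr fun z hz => by
      refine reesIncl_injective 𝓕 ?_
      rw [map_zero]
      refine (isSMulRegular_iff_right_eq_zero_of_smul.mp ha'reg) _ ?_
      rw [smul_eq_mul, show a' = reesIncl 𝓕 (algebraMap A 𝓕.rees a) from ((reesIncl 𝓕).commutes a).symm,
        ← map_mul, ← smul_eq_mul, hz, map_zero]
  let I := P.map (reesIncl 𝓕).toRingHom
  have hI : 2 ≤ LocCoh.idealDepth I 𝓕.extRees := by
    refine two_le_idealDepth_of_rs h _ fun 𝔭 h𝔭 hle => ?_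
    set q' : Ideal A := 𝔭.comap (algebraMap A 𝓕.extRees)
    have hqq' : q ≤ q' := fun b hb => by
      change algebraMap A 𝓕.extRees b ∈ 𝔭
      rw [← (reesIncl 𝓕).commutes b]
      exact hle (Ideal.mem_map_of_mem _ hb)
    have hQ : (coeffIdeal q').comap (algebraMap 𝓕.extRees A[T;T⁻¹]) ≤ 𝔭 := by
      intro x hx
      refine mem_of_mono_mem 𝓕 𝔭 x fun m => ?_
      have key : ∀ (m : ℤ) (b : A) (hb : b ∈ 𝓕.F m.toNat), b ∈ q' → mono 𝓕 m b hb ∈ 𝔭 := by
        intro m b hb hbq
        rcases le_or_gt m 0 with hm | hm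
        · obtain ⟨k, rfl⟩ : ∃ k : ℕ, m = -(k : ℤ) := ⟨(-m).toNat, by omega⟩
          rw [mono_eq_neg]
          exact 𝔭.mul_mem_right _ hbq
        · lift m to ℕ using hm.le
          rw [mono_natCast]
          exact hle (Ideal.mem_map_of_mem (reesIncl 𝓕).toRingHom
            (hpos m b (by simpa using hb) (by exact_mod_cast hm)))
      exact key _ _ _ (mem_coeffIdeal.mp hx m)
    refine le_trans ?_ (Ideal.height_mono hQ)
    have h2 := IsLocalization.height_under (Submonoid.powers 𝓕.u) (coeffIdeal q')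
    rw [Ideal.under_def] at h2
    rw [h2]
    refine le_trans (hht.trans (Ideal.height_mono (hq.trans hqq'))) ?_
    rw [Ideal.height_eq_height_add_of_liesOver_of_hasGoingDown q' (coeffIdeal q')]
    exact le_self_add
  have haq : algebraMap A 𝓕.rees a ∈ P := hq ha
  obtain ⟨x, hxI, hx⟩ := exists_regular_mod (a := a')
    (by rw [show a' = reesIncl 𝓕 (algebraMap A 𝓕.rees a) from ((reesIncl 𝓕).commutes a).symm]
        exact Ideal.mem_map_of_mem _ haq) ha'reg hI
  have h1 : 1 ≤ LocCoh.idealDepth P (QuotSMulTop (algebraMap A 𝓕.rees a) 𝓕.rees) := by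
    by_cases hne : P • (⊤ : Submodule 𝓕.rees (QuotSMulTop (algebraMap A 𝓕.rees a) 𝓕.rees)) = ⊤
    · rw [LocCoh.idealDepth, if_pos hne]
      exact le_top
    refine (H4Depth.one_le_idealDepth_iff hne).mpr ?_
    by_contra hc
    push Not at hc
    obtain ⟨𝔞, h𝔞, hle⟩ := H4Depth.exists_associatedPrime_ge_of_no_regular hc
    obtain ⟨hprime, z, hz⟩ := isAssociatedPrime_iff.mp h𝔞
    obtain ⟨r, rfl⟩ := Submodule.Quotient.mk_surjective _ z
    have hr : r ∉ Ideal.span {algebraMap A 𝓕.rees a} := by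
      intro hr
      have h0 : Submodule.Quotient.mk (p := algebraMap A 𝓕.rees a • (⊤ : Submodule 𝓕.rees 𝓕.rees)) r = 0 := by
        rwa [Submodule.Quotient.mk_eq_zero, ← Submodule.ideal_span_singleton_smul, smul_eq_mul, Ideal.mul_top]
      refine hprime.ne_top (eq_top_iff.mpr fun b _ => ?_)
      rw [hz, h0, Submodule.mem_colon_singleton, smul_zero]
      exact Submodule.zero_mem _
    apply hr
    let J : Ideal 𝓕.extRees := Submodule.comap (LinearMap.mulRight 𝓕.extRees (reesIncl 𝓕 r)) (Ideal.span {a'})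
    have hJ : I ≤ J := by
      refine Ideal.map_le_iff_le_comap.mpr fun p hp => ?_
      have h0 := hz.le (hle hp)
      rw [Submodule.mem_colon_singleton, Submodule.mem_bot, ← Submodule.Quotient.mk_smul,
        Submodule.Quotient.mk_eq_zero, ← Submodule.ideal_span_singleton_smul, smul_eq_mul, Ideal.mul_top,
        smul_eq_mul, Ideal.mem_span_singleton] at h0
      change reesIncl 𝓕 p * reesIncl 𝓕 r ∈ Ideal.span {a'}
      rw [← map_mul, Ideal.mem_span_singleton, show a' = reesIncl 𝓕 (algebraMap A 𝓕.rees a) from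
        ((reesIncl 𝓕).commutes a).symm]
      exact map_dvd _ h0
    obtain ⟨w, hw⟩ := Ideal.mem_span_singleton.mp (hx (reesIncl 𝓕 r) (hJ hxI))
    obtain ⟨y, hy⟩ := mem_range_reesIncl 𝓕 w fun m hm => by
      have h2 := congrArg (fun z : 𝓕.extRees => (z : A[T;T⁻¹]).coeff m) hw
      simp only [coeff_reesIncl_of_neg 𝓕 r hm] at h2
      rw [MulMemClass.coe_mul, show ((a' : 𝓕.extRees) : A[T;T⁻¹]) = algebraMap A A[T;T⁻¹] a from rfl,
        ← Algebra.smul_def, AddMonoidAlgebra.coeff_smul, Finsupp.smul_apply] at h2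
      exact (isSMulRegular_iff_right_eq_zero_of_smul.mp hareg) _ h2.symm
    refine Ideal.mem_span_singleton.mpr ⟨y, reesIncl_injective 𝓕 ?_⟩
    rw [hw, map_mul, hy, (reesIncl 𝓕).commutes a]
  have h2 : 2 ≤ LocCoh.idealDepth P 𝓕.rees := by
    rw [← H4Depth.idealDepth_quotSMulTop_add_one haq haR, ← one_add_one_eq_two]
    exact add_le_add h1 le_rfl
  refine rsLocal_bot_iff.mpr ((min_le_left _ _).trans ?_)
  obtain ⟨e⟩ := H4Depth.exists_localizedModule_self_equiv (R := 𝓕.rees) P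
  rw [← H4Depth.depth_congr e]
  exact WithBot.coe_le_coe.mpr (h2.trans (H4Depth.idealDepth_le_depth_localization P le_rfl))

end ExtRees

end Groth.Agent.H24Filt
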