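import Mathlib.Algebra.DirectSum.Decomposition
import Mathlib.Algebra.DirectSum.Module
import Mathlib.Algebra.Order.Group.Defs
import Mathlib.RingTheory.Finiteness.Projective
import Mathlib.Tactic

/-! Split filtrations indexed by a linear order: projections, and a triangular criterion. -/

set_option autoImplicit false
set_option linter.style.haveILetI false

universe u v w

open DirectSum

namespace Groth.Agent.H24Filt

variable {Γ : Type w} [LinearOrder Γ] {R : Type u} [CommRing R] {M : Type v} [AddCommGroup M] [Module R M]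

/-- Projections attached to an internal direct sum decomposition. -/
structure Proj (G : Γ → Submodule R M) where
  p : Γ → M →ₗ[R] M
  mem : ∀ γ x, p γ x ∈ G γ
  same : ∀ γ, ∀ x ∈ G γ, p γ x = x
  ne : ∀ γ η, η ≠ γ → ∀ x ∈ G η, p γ x = 0
  supp : ∀ x, ∃ s : Finset Γ, (∀ γ ∉ s, p γ x = 0) ∧ x = ∑ γ ∈ s, p γ x

theorem exists_proj {G : Γ → Submodule R M} (h : IsInternal G) : Nonempty (Proj G) := by
  classical
  letI := h.chooseDecomposition
  refine ⟨⟨fun γ => (G γ).subtype ∘ₗ DirectSum.component R Γ (fun i => G i) γ ∘ₗ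
      (decomposeLinearEquiv G).toLinearMap, fun γ x => (decompose G x γ).2,
    fun γ x hx => decompose_of_mem_same G hx, fun γ η hne x hx => decompose_of_mem_ne G hx hne,
    fun x => ⟨(decompose G x).support, fun γ hγ => ?_, (sum_support_decompose G x).symm⟩⟩⟩
  change ((decompose G x γ : G γ) : M) = 0
  rw [DFinsupp.notMem_support_iff.mp hγ]
  rfl

theorem Proj.apply_eq_zero_of_mem_iSup {G : Γ → Submodule R M} (P : Proj G) {S : Set Γ} {γ : Γ} (hγ : γ ∉ S)
    {x : M} (hx : x ∈ ⨆ η ∈ S, G η) : P.p γ x = 0 := by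
  have : (⨆ η ∈ S, G η) ≤ LinearMap.ker (P.p γ) :=
    iSup₂_le fun η hη y hy => P.ne γ η (fun h => hγ (h ▸ hη)) y hy
  exact this hx

theorem Proj.mem_iSup {G : Γ → Submodule R M} (P : Proj G) {S : Set Γ} {x : M} :
    x ∈ ⨆ η ∈ S, G η ↔ ∀ γ ∉ S, P.p γ x = 0 := by
  classical
  refine ⟨fun hx γ hγ => P.apply_eq_zero_of_mem_iSup hγ hx, fun h => ?_⟩
  obtain ⟨s, -, hx⟩ := P.supp x
  rw [hx]
  refine sum_mem fun γ _ => ?_
  by_cases hγ : γ ∈ S
  · exact Submodule.mem_iSup_of_mem γ (Submodule.mem_iSup_of_mem hγ (P.mem γ x))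
  · rw [h γ hγ]; exact zero_mem _

theorem Proj.mem_filt {G F : Γ → Submodule R M} (P : Proj G) (hF : ∀ γ, F γ = ⨆ η ∈ Set.Ici γ, G η)
    {γ : Γ} {x : M} : x ∈ F γ ↔ ∀ η < γ, P.p η x = 0 := by
  rw [hF, P.mem_iSup]
  simp only [Set.mem_Ici, not_le]

theorem le_filt {G F : Γ → Submodule R M} (hF : ∀ γ, F γ = ⨆ η ∈ Set.Ici γ, G η) {γ η : Γ} (h : γ ≤ η) :
    G η ≤ F γ := by
  rw [hF]
  exact le_biSup G (Set.mem_Ici.mpr h)

theorem antitone_filt {G F : Γ → Submodule R M} (hF : ∀ γ, F γ = ⨆ η ∈ Set.Ici γ, G η) : Antitone F :=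
  fun γ η h => by
    rw [hF, hF]
    exact biSup_mono fun _ hi => le_trans h hi

/-- Only finitely many projections of a finitely generated module are nonzero. -/
theorem Proj.exists_support [Module.Finite R M] {G : Γ → Submodule R M} (P : Proj G) :
    ∃ s : Finset Γ, (∀ γ ∉ s, P.p γ = 0) ∧ ∀ x, x = ∑ γ ∈ s, P.p γ x := by
  classical
  obtain ⟨n, b, hb⟩ := Module.Finite.exists_fin (R := R) (M := M)
  choose t ht hsum using fun i => P.supp (b i)
  refine ⟨Finset.univ.biUnion t, fun γ hγ => ?_, fun x => ?_⟩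
  · refine LinearMap.ext_on_range hb fun i => ?_
    rw [LinearMap.zero_apply]
    exact ht i γ fun h => hγ (Finset.mem_biUnion.mpr ⟨i, Finset.mem_univ _, h⟩)
  · refine LinearMap.congr_fun (f := LinearMap.id) (g := ∑ γ ∈ Finset.univ.biUnion t, P.p γ) ?_ x |>.trans
      (LinearMap.sum_apply _ _ _)
    refine LinearMap.ext_on_range hb fun i => ?_
    rw [LinearMap.id_apply, LinearMap.sum_apply]
    refine (hsum i).trans (Finset.sum_subset (fun γ hγ => Finset.mem_biUnion.mpr ⟨i, Finset.mem_univ _, hγ⟩) ?_)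
    exact fun γ _ hγ => ht i γ hγ

theorem isInternal_of_proj {G : Γ → Submodule R M} (p : Γ → M →ₗ[R] M)
    (same : ∀ γ, ∀ x ∈ G γ, p γ x = x) (ne : ∀ γ η, η ≠ γ → ∀ x ∈ G η, p γ x = 0) (top : ⨆ γ, G γ = ⊤) :
    IsInternal G := by
  classical
  refine isInternal_submodule_of_iSupIndep_of_iSup_eq_top (fun γ => Submodule.disjoint_def.mpr fun x hx hx' => ?_) top
  have : (⨆ (η) (_ : η ≠ γ), G η) ≤ LinearMap.ker (p γ) := iSup₂_le fun η hη y hy => ne γ η hη y hy
  rw [← same γ x hx]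
  exact this hx'

theorem eq_zero_of_sum_mem_filt {G F : Γ → Submodule R M} {Fp : Γ → Submodule R M} (hle : ∀ γ, G γ ≤ F γ)
    (hlt : ∀ γ η, γ < η → F η ≤ Fp γ) (htri : ∀ γ, ∀ x ∈ G γ, x ∈ Fp γ → x = 0)
    (s : Finset Γ) : ∀ (x : Γ → M), (∀ η ∈ s, x η ∈ G η) → ∀ γ, ∑ η ∈ s, x η ∈ F γ →
      ∀ η ∈ s, η < γ → x η = 0 := by
  classical
  induction s using Finset.induction_on_min with
  | empty => simp
  | insert a s has ih =>
    intro x hx γ hsum
    have hna : a ∉ s := fun h => lt_irrefl a (has a h)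
    rw [Finset.sum_insert hna] at hsum
    intro η hη hηγ
    by_cases haγ : a < γ
    · have ha0 : x a = 0 := by
        refine htri a _ (hx a (Finset.mem_insert_self _ _)) ?_
        have h1 : ∑ η ∈ s, x η ∈ Fp a :=
          sum_mem fun i hi => hlt a i (has i hi) (hle i (hx i (Finset.mem_insert_of_mem hi)))
        simpa using sub_mem (hlt a γ haγ hsum) h1
      rcases Finset.mem_insert.mp hη with rfl | hη
      · exact ha0
      · exact ih x (fun i hi => hx i (Finset.mem_insert_of_mem hi)) γ (by simpa [ha0] using hsum) η hη hηγ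
    · rcases Finset.mem_insert.mp hη with rfl | hη
      · exact absurd hηγ haγ
      · exact absurd ((has η hη).trans hηγ) haγ

theorem exists_finset_sum {G : Γ → Submodule R M} (S : Set Γ) {x : M} (hx : x ∈ ⨆ η ∈ S, G η) :
    ∃ (s : Finset Γ) (y : Γ → M), (∀ η ∈ s, η ∈ S) ∧ (∀ η ∈ s, y η ∈ G η) ∧ x = ∑ η ∈ s, y η := by
  classical
  rw [iSup_subtype'] at hx
  obtain ⟨f, hf, hsum⟩ := (Submodule.mem_iSup_iff_exists_finsupp _ _).mp hx
  refine ⟨f.support.image Subtype.val, fun η => if h : η ∈ S then f ⟨η, h⟩ else 0,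
    fun η hη => ?_, fun η hη => ?_, ?_⟩
  · obtain ⟨i, -, rfl⟩ := Finset.mem_image.mp hη
    exact i.2
  · obtain ⟨i, -, rfl⟩ := Finset.mem_image.mp hη
    simpa [i.2] using hf i
  · rw [Finset.sum_image (fun a _ b _ h => Subtype.ext h), ← hsum, Finsupp.sum]
    exact Finset.sum_congr rfl fun i _ => by simp [i.2]

/-- Triangular criterion: submodules `G γ` of `F γ` meeting the part above `γ` trivially and spanning
everything split `F`. -/
theorem splits_of_triangular [NoMaxOrder Γ] {G F : Γ → Submodule R M} {Fp : Γ → Submodule R M}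
    (hanti : Antitone F) (hle : ∀ γ, G γ ≤ F γ)
    (hlt : ∀ γ η, γ < η → F η ≤ Fp γ) (htri : ∀ γ, ∀ x ∈ G γ, x ∈ Fp γ → x = 0) (top : ⨆ γ, G γ = ⊤) :
    IsInternal G ∧ ∀ γ, F γ = ⨆ η ∈ Set.Ici γ, G η := by
  classical
  refine ⟨isInternal_submodule_of_iSupIndep_of_iSup_eq_top (fun γ => Submodule.disjoint_def.mpr fun x hx hx' => ?_) top,
    fun γ => le_antisymm (fun x hx => ?_) (iSup₂_le fun η hη => (hle η).trans (hanti hη))⟩
  · obtain ⟨s, y, hs, hy, hsum⟩ := exists_finset_sum {η | η ≠ γ} hx'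
    have hγs : γ ∉ s := fun h => hs γ h rfl
    obtain ⟨γ', hγ'⟩ := exists_gt γ
    have h0 : ∑ η ∈ insert γ s, (if η = γ then -x else y η) = 0 := by
      rw [Finset.sum_insert hγs, if_pos rfl, Finset.sum_congr rfl (fun η hη => if_neg (hs η hη)), ← hsum, neg_add_cancel]
    have := eq_zero_of_sum_mem_filt hle hlt htri (insert γ s) _ (fun η hη => ?_) γ' (h0.symm ▸ zero_mem _) γ
      (Finset.mem_insert_self _ _) hγ'
    · simpa using this
    · split_ifs with h
      · exact h ▸ neg_mem hx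
      · exact hy η ((Finset.mem_insert.mp hη).resolve_left h)
  · have htop : x ∈ ⨆ η ∈ (Set.univ : Set Γ), G η := by simp [top]
    obtain ⟨s, y, -, hy, rfl⟩ := exists_finset_sum _ htop
    refine sum_mem fun η hη => ?_
    by_cases h : γ ≤ η
    · exact Submodule.mem_iSup_of_mem η (Submodule.mem_iSup_of_mem h (hy η hη))
    · rw [eq_zero_of_sum_mem_filt hle hlt htri s y hy γ hx η hη (not_le.mp h)]
      exact zero_mem _

section Retract

variable [Module.Finite R M] [Module.Projective R M]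

theorem exists_dual_basis : ∃ (n : ℕ) (e : Fin n → M) (g : Fin n → M →ₗ[R] R), ∀ x, x = ∑ j, g j x • e j := by
  classical
  obtain ⟨n, f, g, -, -, hfg⟩ := Module.Finite.exists_comp_eq_id_of_projective R M
  refine ⟨n, fun j => f (Pi.single j 1), fun j => LinearMap.proj j ∘ₗ g, fun x => ?_⟩
  have hg : g x = ∑ j, g x j • Pi.single j (1 : R) := by
    ext i; simp [Finset.sum_apply, Pi.single_apply]
  conv_lhs => rw [← LinearMap.id_apply (R := R) x, ← hfg, LinearMap.comp_apply, hg, map_sum]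
  exact Finset.sum_congr rfl fun j _ => map_smul f _ _

end Retract

end Groth.Agent.H24Filt
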