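import Groth.Agent.H24Filt.Split
import Mathlib.LinearAlgebra.PiTensorProduct
import Mathlib.LinearAlgebra.Multilinear.Basic
import Mathlib.RingTheory.Ideal.Operations
import Mathlib.Algebra.Group.Pointwise.Set.ListOfFn

/-! Filtrations are determined by their tensor powers. -/

set_option autoImplicit false
set_option linter.style.haveILetI false

universe u v w

open scoped TensorProduct

namespace Groth.Agent.H24Filt

variable {R : Type u} [CommRing R] {M : Type v} [AddCommGroup M] [Module R M]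

/-- `⨂ x_i ↦ ∏ f_i x_i`. -/
noncomputable def prodFun {n : ℕ} (f : Fin n → M →ₗ[R] R) : (⨂[R] _ : Fin n, M) →ₗ[R] R :=
  PiTensorProduct.lift ((MultilinearMap.mkPiAlgebra R (Fin n) R).compLinearMap f)

theorem prodFun_tprod {n : ℕ} (f : Fin n → M →ₗ[R] R) (x : Fin n → M) :
    prodFun f (PiTensorProduct.tprod R x) = ∏ i, f i (x i) := by
  simp [prodFun, MultilinearMap.compLinearMap_apply]

theorem prodFun_map_subtype_eq_zero {n : ℕ} (f : Fin n → M →ₗ[R] R) (N : Fin n → Submodule R M)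
    (h : ∀ y : Fin n → M, (∀ i, y i ∈ N i) → ∏ i, f i (y i) = 0) :
    LinearMap.range (PiTensorProduct.map (R := R) (fun i => (N i).subtype)) ≤ LinearMap.ker (prodFun f) := by
  rw [LinearMap.range_le_ker_iff]
  refine PiTensorProduct.ext (MultilinearMap.ext fun y => ?_)
  simp only [LinearMap.compMultilinearMap_apply, LinearMap.comp_apply, PiTensorProduct.map_tprod,
    prodFun_tprod, LinearMap.zero_apply]
  exact h _ fun i => (y i).2

section Summand

variable [Module.Finite R M] [Module.Projective R M]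

theorem le_of_tensorPow_le {F₁ F₂ C₁ C₂ : Submodule R M} (h₁ : IsCompl F₁ C₁) (h₂ : IsCompl F₂ C₂) {k : ℕ}
    (hk : 1 ≤ k)
    (h : LinearMap.range (PiTensorProduct.map (R := R) (fun _ : Fin k => F₁.subtype)) ≤
      LinearMap.range (PiTensorProduct.map (R := R) (fun _ : Fin k => F₂.subtype))) : F₁ ≤ F₂ := by
  classical
  obtain ⟨n, e, g, hg⟩ := exists_dual_basis (R := R) (M := M)
  obtain ⟨k, rfl⟩ := Nat.exists_eq_succ_of_ne_zero (by omega : k ≠ 0)
  let q : M →ₗ[R] M := C₂.subtype ∘ₗ C₂.projectionOnto F₂ h₂.symm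
  have hq : ∀ y ∈ F₂, q y = 0 := fun y hy => by simp [q, Submodule.projectionOnto_apply_eq_zero_iff, hy]
  let p : M →ₗ[R] M := F₁.subtype ∘ₗ F₁.projectionOnto C₁ h₁
  have key : ∀ (d m : ℕ), m + d = k → ∀ x ∈ F₁, ∀ (f : M →ₗ[R] R) (fs : Fin m → M →ₗ[R] R) (ys : Fin m → M),
      (∀ i, ys i ∈ F₁) → f (q x) * ∏ i, fs i (ys i) = 0 := by
    intro d
    induction d with
    | zero =>
      intro m hm x hx f fs ys hys
      obtain rfl : m = k := by omega
      have hmem : PiTensorProduct.tprod R (Fin.cons x ys : Fin (m + 1) → M) ∈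
          LinearMap.range (PiTensorProduct.map (R := R) (fun _ : Fin (m + 1) => F₁.subtype)) :=
        ⟨PiTensorProduct.tprod R (fun i => ⟨(Fin.cons x ys : Fin (m + 1) → M) i,
          Fin.cases (by simpa using hx) (fun j => by simpa using hys j) i⟩), by simp⟩
      have h0 := prodFun_map_subtype_eq_zero (Fin.cons (f ∘ₗ q) fs : Fin (m + 1) → M →ₗ[R] R)
        (fun _ => F₂) (fun y hy => by rw [Fin.prod_univ_succ]; simp [hq _ (hy 0)]) (h hmem)
      rw [LinearMap.mem_ker, prodFun_tprod, Fin.prod_univ_succ] at h0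
      simpa using h0
    | succ d ih =>
      intro m hm x hx f fs ys hys
      have hx' : f (q x) = ∑ j, g j x * f (q (p (e j))) := by
        have hpx : p x = x := by simp [p, Submodule.projectionOnto_apply_of_mem_left _ hx]
        conv_lhs => rw [← hpx, hg x]
        simp [map_sum]
      rw [hx', Finset.sum_mul]
      refine Finset.sum_eq_zero fun j _ => ?_
      have := ih (m + 1) (by omega) (p (e j)) (Submodule.coe_mem _) f (Fin.cons (g j) fs) (Fin.cons x ys)
        (Fin.cases (by simpa using hx) (fun i => by simpa using hys i))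
      rw [Fin.prod_univ_succ] at this
      simp only [Fin.cons_zero, Fin.cons_succ] at this
      rw [← this]; ring
  intro x hx
  have hqx : q x = 0 := by
    rw [hg (q x)]
    refine Finset.sum_eq_zero fun j _ => ?_
    have := key k 0 (by omega) x hx (g j) Fin.elim0 Fin.elim0 (fun i => i.elim0)
    rw [Finset.univ_eq_empty, Finset.prod_empty, mul_one] at this
    rw [this, zero_smul]
  simpa [q, Submodule.projectionOnto_apply_eq_zero_iff] using hqx

end Summand

variable {Γ : Type w} [AddCommGroup Γ] [LinearOrder Γ] [IsOrderedAddMonoid Γ]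

theorem prod_eq_zero_of_tensorFilt_le {G₂ F₁ F₂ : Γ → Submodule R M} (P₂ : Proj G₂)
    (hF₂ : ∀ γ, F₂ γ = ⨆ η ∈ Set.Ici γ, G₂ η) {n : ℕ}
    (h : ∀ γ : Γ,
      (⨆ c : {c : Fin n → Γ // ∑ i, c i = γ}, LinearMap.range (PiTensorProduct.map (R := R) (fun i => (F₁ (c.1 i)).subtype))) ≤
      (⨆ c : {c : Fin n → Γ // ∑ i, c i = γ}, LinearMap.range (PiTensorProduct.map (R := R) (fun i => (F₂ (c.1 i)).subtype))))
    (c δ : Fin n → Γ) (f : Fin n → M →ₗ[R] R) (x : Fin n → M) (hx : ∀ i, x i ∈ F₁ (c i))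
    (hlt : ∑ i, δ i < ∑ i, c i) : ∏ i, f i (P₂.p (δ i) (x i)) = 0 := by
  have hmem : PiTensorProduct.tprod R x ∈
      ⨆ c' : {c' : Fin n → Γ // ∑ i, c' i = ∑ i, c i}, LinearMap.range (PiTensorProduct.map (R := R) (fun i => (F₁ (c'.1 i)).subtype)) :=
    Submodule.mem_iSup_of_mem ⟨c, rfl⟩ ⟨PiTensorProduct.tprod R (fun i => ⟨x i, hx i⟩), by simp⟩
  have hle : (⨆ c' : {c' : Fin n → Γ // ∑ i, c' i = ∑ i, c i}, LinearMap.range (PiTensorProduct.map (R := R) (fun i => (F₂ (c'.1 i)).subtype))) ≤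
      LinearMap.ker (prodFun fun i => f i ∘ₗ P₂.p (δ i)) := by
    refine iSup_le fun c' => prodFun_map_subtype_eq_zero _ _ fun y hy => ?_
    obtain ⟨i, -, hi⟩ := Finset.exists_lt_of_sum_lt (hlt.trans_eq c'.2.symm)
    refine Finset.prod_eq_zero (Finset.mem_univ i) ?_
    rw [LinearMap.comp_apply, (P₂.mem_filt hF₂).mp (hy i) _ hi, map_zero]
  have h0 := hle (h _ hmem)
  rwa [LinearMap.mem_ker, prodFun_tprod] at h0

variable [Module.Finite R M] [Module.Projective R M]

theorem filt_le_of_tensorFilt_eq {G₁ G₂ F₁ F₂ : Γ → Submodule R M} (P₁ : Proj G₁) (P₂ : Proj G₂)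
    (hF₁ : ∀ γ, F₁ γ = ⨆ η ∈ Set.Ici γ, G₁ η) (hF₂ : ∀ γ, F₂ γ = ⨆ η ∈ Set.Ici γ, G₂ η) {m : ℕ}
    (h : ∀ γ : Γ,
      (⨆ c : {c : Fin (m + 1) → Γ // ∑ i, c i = γ}, LinearMap.range (PiTensorProduct.map (R := R) (fun i => (F₁ (c.1 i)).subtype))) =
      (⨆ c : {c : Fin (m + 1) → Γ // ∑ i, c i = γ}, LinearMap.range (PiTensorProduct.map (R := R) (fun i => (F₂ (c.1 i)).subtype)))) :
    ∀ γ, F₁ γ ≤ F₂ γ := by
  classical
  obtain ⟨n, e, g, hg⟩ := exists_dual_basis (R := R) (M := M)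
  have h12 := prod_eq_zero_of_tensorFilt_le P₂ hF₂ (fun γ => (h γ).le)
  have h21 := prod_eq_zero_of_tensorFilt_le P₁ hF₁ (fun γ => (h γ).ge)
  obtain ⟨s₁, -, hs₁⟩ := P₁.exists_support
  obtain ⟨s₂, -, hs₂⟩ := P₂.exists_support
  let SI : Set R := {r | ∃ δ δ', δ' < δ ∧ ∃ z ∈ G₂ δ, ∃ f : M →ₗ[R] R, f (P₁.p δ' z) = r}
  let SC : Set R := {r | ∃ γ η, η < γ ∧ ∃ x ∈ G₁ γ, ∃ f : M →ₗ[R] R, f (P₂.p η x) = r}
  set I := Ideal.span SI
  set C := Ideal.span SC
  have hI : I ^ (m + 1) = ⊥ := by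
    refine eq_bot_iff.mpr (le_of_eq_of_le (Submodule.span_pow SI (m + 1)) (Submodule.span_le.mpr ?_))
    intro r hr
    obtain ⟨w, rfl⟩ := Set.mem_pow.mp hr
    rw [List.prod_ofFn]
    choose δ δ' hlt z hz f hf using fun i => (w i).2
    change ∏ i, ((w i : SI) : R) ∈ (⊥ : Ideal R)
    simp only [← hf, Ideal.mem_bot]
    exact h21 δ δ' f z (fun i => le_filt hF₂ le_rfl (hz i))
      (Finset.sum_lt_sum_of_nonempty Finset.univ_nonempty fun i _ => hlt i)
  have key : ∀ (d l : ℕ), l + d = m → ∀ γ η, η < γ → ∀ x ∈ G₁ γ, ∀ (f : M →ₗ[R] R)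
      (fs : Fin l → M →ₗ[R] R) (zs : Fin l → M), f (P₂.p η x) * ∏ i, fs i (zs i) ∈ C * I := by
    intro d
    induction d with
    | zero =>
      intro l hl γ η hηγ x hx f fs zs
      obtain rfl : l = m := by omega
      have hexp : ∀ i, fs i (zs i) =
          ∑ q ∈ s₂ ×ˢ s₁, fs i (P₂.p q.1 (P₁.p q.2 (P₂.p q.1 (zs i)))) := fun i => by
        conv_lhs => rw [hs₂ (zs i)]
        rw [map_sum, Finset.sum_product]
        refine Finset.sum_congr rfl fun δ _ => ?_
        conv_lhs => rw [← P₂.same δ _ (P₂.mem δ (zs i)), hs₁ (P₂.p δ (zs i))]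
        rw [map_sum, map_sum]
      simp only [hexp]
      rw [Finset.prod_univ_sum, Finset.mul_sum]
      refine sum_mem fun q _ => ?_
      by_cases hlow : ∃ i, (q i).2 < (q i).1
      · obtain ⟨i, hi⟩ := hlow
        rw [← Finset.mul_prod_erase _ _ (Finset.mem_univ i), ← mul_assoc]
        refine Ideal.mul_mem_right _ _ (Ideal.mul_mem_mul ?_ ?_)
        · exact Ideal.subset_span ⟨γ, η, hηγ, x, hx, f, rfl⟩
        · exact Ideal.subset_span ⟨(q i).1, (q i).2, hi, _, P₂.mem _ _, fs i ∘ₗ P₂.p (q i).1, rfl⟩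
      · push_neg at hlow
        have h0 := h12 (Fin.cons γ fun i => (q i).2) (Fin.cons η fun i => (q i).1) (Fin.cons f fs)
          (Fin.cons x fun i => P₁.p (q i).2 (P₂.p (q i).1 (zs i)))
          (Fin.cases (by simpa using le_filt hF₁ le_rfl hx)
            (fun i => by simpa using le_filt hF₁ le_rfl (P₁.mem _ _)))
          (by
            rw [Fin.sum_univ_succ, Fin.sum_univ_succ]
            simp only [Fin.cons_zero, Fin.cons_succ]
            exact add_lt_add_of_lt_of_le hηγ (Finset.sum_le_sum fun i _ => hlow i))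
        rw [Fin.prod_univ_succ] at h0
        simp only [Fin.cons_zero, Fin.cons_succ] at h0
        rw [h0]; exact zero_mem _
    | succ d ih =>
      intro l hl γ η hηγ x hx f fs zs
      conv in f (P₂.p η x) => rw [hg (P₂.p η x)]
      rw [map_sum, Finset.sum_mul]
      refine sum_mem fun j _ => ?_
      have := ih (l + 1) (by omega) γ η hηγ x hx (g j) (Fin.cons f fs) (Fin.cons (e j) zs)
      rw [Fin.prod_univ_succ] at this
      simp only [Fin.cons_zero, Fin.cons_succ] at this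
      rwa [map_smul, smul_eq_mul, mul_assoc]
  have hC : C ≤ C * I := Ideal.span_le.mpr fun r hr => by
    obtain ⟨γ, η, hηγ, x, hx, f, rfl⟩ := hr
    simpa using key m 0 (by omega) γ η hηγ x hx f Fin.elim0 Fin.elim0
  have hC' : ∀ j, C ≤ C * I ^ j := fun j => by
    induction j with
    | zero => simp
    | succ j ih => exact ih.trans (by rw [pow_succ', ← mul_assoc]; exact Ideal.mul_mono_left hC)
  have hC0 : C = ⊥ := eq_bot_iff.mpr ((hC' (m + 1)).trans (by rw [hI, Ideal.mul_bot]))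
  intro γ
  rw [hF₁]
  refine iSup₂_le fun γ' hγ' x hx => (P₂.mem_filt hF₂).mpr fun η hη => ?_
  rw [hg (P₂.p η x)]
  refine Finset.sum_eq_zero fun j _ => ?_
  have : g j (P₂.p η x) ∈ C := Ideal.subset_span ⟨γ', η, hη.trans_le hγ', x, hx, g j, rfl⟩
  rw [hC0, Ideal.mem_bot] at this
  rw [this, zero_smul]

end Groth.Agent.H24Filt
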