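import Mathlib
import Groth.Prelude.Def_GrLC
import Groth.Agent.H05EGA4.Regular
import Groth.Agent.H24Filt.ExtRees

/-!
# Graded rings with a unit of positive degree: `R[U]/(U^N - t) ≅ (R/(t-1))[V, 1/V]` (helper24)
-/

set_option autoImplicit false
set_option linter.style.haveILetI false
universe u
open DirectSum Groth.Agent Polynomial LaurentPolynomial IsLocalRing

namespace Groth.Agent.H24Filt.TwistedUnit

variable {R : Type u} [CommRing R] (𝒜 : ℤ → AddSubgroup R) [GradedRing 𝒜]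

/-- Twist a ring map by powers of a unit. -/
noncomputable def twist {S : Type u} [CommRing S] (f : R →+* S) (w : Sˣ) : R →+* S :=
  (DirectSum.toSemiring (fun i => ((AddMonoidHom.mulRight ((w ^ i : Sˣ) : S)).comp f.toAddMonoidHom).comp
      (AddSubmonoidClass.subtype (𝒜 i)))
    (by simp)
    (fun {i j} a b => by
      simp only [AddMonoidHom.coe_comp, AddSubmonoidClass.coe_subtype, Function.comp_apply,
        RingHom.toAddMonoidHom_eq_coe, AddMonoidHom.coe_coe, SetLike.coe_gMul, map_mul, AddMonoidHom.coe_mulRight,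
        zpow_add, Units.val_mul]
      ring)).comp (DirectSum.decomposeRingEquiv 𝒜 : R →+* ⨁ i, 𝒜 i)

theorem twist_of_mem {S : Type u} [CommRing S] (f : R →+* S) (w : Sˣ) {i : ℤ} {x : R} (hx : x ∈ 𝒜 i) :
    twist 𝒜 f w x = f x * ((w ^ i : Sˣ) : S) := by
  rw [twist, RingHom.comp_apply, show (DirectSum.decomposeRingEquiv 𝒜 : R →+* ⨁ i, 𝒜 i) x = decompose 𝒜 x from rfl,
    decompose_of_mem 𝒜 hx, DirectSum.toSemiring_of]
  rfl

theorem hom_ext {S : Type u} [CommRing S] {f g : R →+* S} (h : ∀ (i : ℤ), ∀ x ∈ 𝒜 i, f x = g x) : f = g := by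
  classical
  refine RingHom.ext fun x => ?_
  rw [← sum_support_decompose 𝒜 x, map_sum, map_sum]
  exact Finset.sum_congr rfl fun i _ => h i _ (SetLike.coe_mem _)

variable {N : ℕ} {t : R} (ht : t ∈ 𝒜 (N : ℤ)) (htu : IsUnit t)

include ht in
theorem unit_zpow_mem (k : ℤ) : ((htu.unit ^ k : Rˣ) : R) ∈ 𝒜 (k * N) := by
  classical
  have hinv : ((htu.unit⁻¹ : Rˣ) : R) ∈ 𝒜 (-(N : ℤ)) := by
    set s := ((htu.unit⁻¹ : Rˣ) : R)
    have h1 : t * s = 1 := htu.mul_val_inv
    have h2 : (decompose 𝒜 (t * s) 0 : R) = t * decompose 𝒜 s (-(N : ℤ)) := by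
      rw [show (0 : ℤ) = (N : ℤ) + (-(N : ℤ)) by ring]
      exact coe_decompose_mul_add_of_left_mem 𝒜 ht
    rw [h1, decompose_of_mem_same 𝒜 SetLike.GradedOne.one_mem] at h2
    rw [htu.mul_left_cancel (h1.trans h2)]
    exact SetLike.coe_mem _
  induction k using Int.induction_on with
  | zero => simpa using SetLike.GradedOne.one_mem
  | succ k ih =>
    rw [zpow_add_one, Units.val_mul, IsUnit.unit_spec, add_mul, one_mul]
    exact SetLike.GradedMul.mul_mem ih ht
  | pred k ih =>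
    rw [zpow_sub_one, Units.val_mul, sub_mul, one_mul, sub_eq_add_neg]
    exact SetLike.GradedMul.mul_mem ih hinv

/-- `T` as a unit. -/
noncomputable def unitT (C : Type u) [CommRing C] : C[T;T⁻¹]ˣ :=
  ⟨T 1, T (-1), by rw [← T_add, add_neg_cancel, T_zero], by rw [← T_add, neg_add_cancel, T_zero]⟩

theorem unitT_zpow (C : Type u) [CommRing C] (i : ℤ) : ((unitT C ^ i : C[T;T⁻¹]ˣ) : C[T;T⁻¹]) = T i := by
  induction i using Int.induction_on with
  | zero => rw [zpow_zero, Units.val_one, T_zero]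
  | succ k ih => rw [zpow_add_one, Units.val_mul, ih, T_add]; rfl
  | pred k ih => rw [zpow_sub_one, Units.val_mul, ih, T_sub]; rfl

local notation "CC" => R ⧸ Ideal.span {t - 1}

/-- The map `r_i ↦ r_i V ^ i`. -/
noncomputable def rho : R →+* (CC)[T;T⁻¹] :=
  twist 𝒜 ((LaurentPolynomial.C).comp (Ideal.Quotient.mk (Ideal.span {t - 1}))) (unitT CC)

theorem rho_of_mem {i : ℤ} {x : R} (hx : x ∈ 𝒜 i) :
    rho 𝒜 (t := t) x = LaurentPolynomial.C (Ideal.Quotient.mk (Ideal.span {t - 1}) x) * T i := by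
  rw [rho, twist_of_mem 𝒜 _ _ hx, unitT_zpow]
  rfl

theorem mk_t : Ideal.Quotient.mk (Ideal.span {t - 1}) t = 1 := by
  rw [← map_one (Ideal.Quotient.mk (Ideal.span {t - 1})), Ideal.Quotient.eq]
  exact Ideal.mem_span_singleton_self _

theorem mk_unit_zpow (k : ℤ) : Ideal.Quotient.mk (Ideal.span {t - 1}) ((htu.unit ^ k : Rˣ) : R) = 1 := by
  have h : Units.map (Ideal.Quotient.mk (Ideal.span {t - 1})).toMonoidHom htu.unit = 1 :=
    Units.ext (mk_t (t := t))
  calc Ideal.Quotient.mk (Ideal.span {t - 1}) ((htu.unit ^ k : Rˣ) : R)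
      = ((Units.map (Ideal.Quotient.mk (Ideal.span {t - 1})).toMonoidHom (htu.unit ^ k) : (CC)ˣ) : CC) := rfl
    _ = 1 := by rw [map_zpow, h, one_zpow, Units.val_one]

local notation "BB" => AdjoinRoot (Polynomial.X ^ N - Polynomial.C t)

variable (hN : 0 < N)

theorem root_pow : (AdjoinRoot.root (Polynomial.X ^ N - Polynomial.C t) : BB) ^ N = AdjoinRoot.of _ t := by
  have h := AdjoinRoot.eval₂_root (Polynomial.X ^ N - Polynomial.C t)
  rwa [Polynomial.eval₂_sub, Polynomial.eval₂_X_pow, Polynomial.eval₂_C, sub_eq_zero] at h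

include htu hN in
theorem isUnit_root : IsUnit (AdjoinRoot.root (Polynomial.X ^ N - Polynomial.C t) : BB) :=
  (isUnit_pow_iff hN.ne').mp (by rw [root_pow]; exact htu.map _)

theorem psi_eval : (Polynomial.X ^ N - Polynomial.C t).eval₂ (rho 𝒜 (t := t)) (T 1) = 0 ↔
    rho 𝒜 (t := t) t = T (N : ℤ) := by
  rw [Polynomial.eval₂_sub, Polynomial.eval₂_X_pow, Polynomial.eval₂_C, T_pow, mul_one, sub_eq_zero, eq_comm]

include ht in
theorem rho_t : rho 𝒜 (t := t) t = T (N : ℤ) := by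
  rw [rho_of_mem 𝒜 ht, mk_t, map_one, one_mul]

/-- `R[U]/(U^N - t) → (R/(t-1))[V,1/V]`. -/
noncomputable def psi : BB →+* (CC)[T;T⁻¹] :=
  AdjoinRoot.lift (rho 𝒜 (t := t)) (T 1) ((psi_eval 𝒜).mpr (rho_t 𝒜 ht))

/-- `R/(t-1) → R[U]/(U^N - t)`. -/
noncomputable def sigma : CC →+* BB :=
  Ideal.Quotient.lift _ (twist 𝒜 (AdjoinRoot.of (Polynomial.X ^ N - Polynomial.C t)) (isUnit_root htu hN).unit⁻¹)
    (fun a ha => by
      obtain ⟨b, rfl⟩ := Ideal.mem_span_singleton'.mp ha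
      rw [map_mul, map_sub, twist_of_mem 𝒜 _ _ ht, map_one, zpow_natCast, inv_pow]
      have h : ((isUnit_root htu hN).unit ^ N : (BB)ˣ) = (htu.map (AdjoinRoot.of _)).unit :=
        Units.ext (by rw [Units.val_pow_eq_pow_val, IsUnit.unit_spec, IsUnit.unit_spec, root_pow])
      rw [h, IsUnit.mul_val_inv, sub_self, mul_zero])

/-- The inverse map. -/
noncomputable def phi : (CC)[T;T⁻¹] →+* BB :=
  LaurentPolynomial.eval₂ (sigma 𝒜 ht htu hN) (isUnit_root htu hN).unit

theorem psi_root_zpow (i : ℤ) : psi 𝒜 ht (((isUnit_root htu hN).unit ^ i : (BB)ˣ) : BB) = T i := by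
  have h : Units.map (psi 𝒜 ht).toMonoidHom (isUnit_root htu hN).unit = unitT CC :=
    Units.ext (AdjoinRoot.lift_root _)
  calc psi 𝒜 ht (((isUnit_root htu hN).unit ^ i : (BB)ˣ) : BB)
      = ((Units.map (psi 𝒜 ht).toMonoidHom ((isUnit_root htu hN).unit ^ i) : (CC)[T;T⁻¹]ˣ) : (CC)[T;T⁻¹]) := rfl
    _ = T i := by rw [map_zpow, h, unitT_zpow]

theorem sigma_mk {i : ℤ} {x : R} (hx : x ∈ 𝒜 i) :
    sigma 𝒜 ht htu hN (Ideal.Quotient.mk _ x) =
      AdjoinRoot.of _ x * (((isUnit_root htu hN).unit ^ (-i) : (BB)ˣ) : BB) := by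
  rw [sigma, Ideal.Quotient.lift_mk, twist_of_mem 𝒜 _ _ hx, inv_zpow, zpow_neg]

/-- `R[U]/(U^N - t) ≅ (R/(t-1))[V,1/V]`. -/
noncomputable def equiv : BB ≃+* (CC)[T;T⁻¹] :=
  RingEquiv.ofRingHom (psi 𝒜 ht) (phi 𝒜 ht htu hN)
    (by
      refine RingHom.ext fun z => ?_
      induction z using LaurentPolynomial.induction_on' with
      | add p q hp hq => rw [map_add, hp, hq, map_add]
      | C_mul_T n c =>
        rw [RingHom.comp_apply, phi, map_mul, LaurentPolynomial.eval₂_C, LaurentPolynomial.eval₂_T, map_mul,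
          psi_root_zpow 𝒜 ht htu hN, RingHom.id_apply]
        congr 1
        obtain ⟨r, rfl⟩ := Ideal.Quotient.mk_surjective c
        have : ((psi 𝒜 ht).comp (sigma 𝒜 ht htu hN)).comp (Ideal.Quotient.mk _) =
            (LaurentPolynomial.C).comp (Ideal.Quotient.mk (Ideal.span {t - 1})) := by
          refine hom_ext 𝒜 fun i x hx => ?_
          rw [RingHom.comp_apply, RingHom.comp_apply, RingHom.comp_apply, sigma_mk 𝒜 ht htu hN hx, map_mul,
            psi_root_zpow 𝒜 ht htu hN, psi, AdjoinRoot.lift_of, rho_of_mem 𝒜 hx, mul_T_assoc, add_neg_cancel,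
            T_zero, mul_one]
        exact RingHom.congr_fun this r)
    (by
      refine Ideal.Quotient.ringHom_ext (Polynomial.ringHom_ext' ?_ ?_)
      · refine hom_ext 𝒜 fun i x hx => ?_
        change phi 𝒜 ht htu hN (psi 𝒜 ht (AdjoinRoot.of _ x)) = AdjoinRoot.of _ x
        rw [psi, AdjoinRoot.lift_of, rho_of_mem 𝒜 hx, phi, map_mul, LaurentPolynomial.eval₂_C,
          LaurentPolynomial.eval₂_T, sigma_mk 𝒜 ht htu hN hx, mul_assoc, ← Units.val_mul, ← zpow_add,
          neg_add_cancel, zpow_zero, Units.val_one, mul_one]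
      · change phi 𝒜 ht htu hN (psi 𝒜 ht (AdjoinRoot.root _)) = AdjoinRoot.root _
        rw [psi, AdjoinRoot.lift_root, phi, LaurentPolynomial.eval₂_T, zpow_one, IsUnit.unit_spec])

/-! ### Locality and regularity -/

variable [IsLocalRing (GrLC.deg0 𝒜)]
  (hm : ∀ (i j : ℤ), 0 < i → 0 < j → i + j = (N : ℤ) → ∀ a ∈ 𝒜 i, ∀ b ∈ 𝒜 j,
    ∃ c : GrLC.deg0 𝒜, c ∈ IsLocalRing.maximalIdeal (GrLC.deg0 𝒜) ∧ a * b = (c : R) * t)

include ht htu hN hm in
theorem mul_mem_max {i : ℤ} (hi : ¬ (N : ℤ) ∣ i) {x y : R} (hx : x ∈ 𝒜 i) (hy : y ∈ 𝒜 (-i)) :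
    ∃ c : GrLC.deg0 𝒜, c ∈ IsLocalRing.maximalIdeal (GrLC.deg0 𝒜) ∧ x * y = (c : R) := by
  have hN' : (0 : ℤ) < N := by exact_mod_cast hN
  have h0 : 0 < i % (N : ℤ) := lt_of_le_of_ne (Int.emod_nonneg i hN'.ne') fun h =>
    hi (Int.dvd_of_emod_eq_zero h.symm)
  have hdiv : (i / (N : ℤ)) * N + i % (N : ℤ) = i := by rw [mul_comm]; exact Int.mul_ediv_add_emod i N
  have hx' : x * ((htu.unit ^ (-(i / (N : ℤ))) : Rˣ) : R) ∈ 𝒜 (i % (N : ℤ)) := by
    have := SetLike.GradedMul.mul_mem hx (unit_zpow_mem 𝒜 ht htu (-(i / (N : ℤ))))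
    rwa [show i + -(i / (N : ℤ)) * N = i % (N : ℤ) by linarith] at this
  have hy' : y * ((htu.unit ^ (i / (N : ℤ) + 1) : Rˣ) : R) ∈ 𝒜 ((N : ℤ) - i % (N : ℤ)) := by
    have := SetLike.GradedMul.mul_mem hy (unit_zpow_mem 𝒜 ht htu (i / (N : ℤ) + 1))
    rwa [show -i + (i / (N : ℤ) + 1) * N = (N : ℤ) - i % (N : ℤ) by linarith] at this
  obtain ⟨c, hc, hxy⟩ := hm _ _ h0 (by have := Int.emod_lt_of_pos i hN'; linarith) (by ring) _ hx' _ hy'
  refine ⟨c, hc, htu.mul_right_cancel ?_⟩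
  rw [← hxy, mul_mul_mul_comm, ← Units.val_mul, ← zpow_add, neg_add_cancel_left, zpow_one, IsUnit.unit_spec]

theorem nontrivial_BB [Nontrivial R] (t : R) (hN : 0 < N) :
    Nontrivial (AdjoinRoot (Polynomial.X ^ N - Polynomial.C t)) := by
  exact Ideal.Quotient.nontrivial_iff.mpr fun h => by
    have h1 := Ideal.span_singleton_eq_top.mp h
    have h2 := (Polynomial.monic_X_pow_sub_C t hN.ne').eq_one_of_isUnit h1
    have h3 := congrArg Polynomial.natDegree h2
    rw [Polynomial.natDegree_X_pow_sub_C, Polynomial.natDegree_one] at h3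
    omega

include ht htu hN in
theorem nontrivial_CC : Nontrivial CC :=
  haveI : Nontrivial R := Subtype.val_injective.nontrivial (α := GrLC.deg0 𝒜)
  haveI := nontrivial_BB t hN
  (sigma 𝒜 ht htu hN).domain_nontrivial

include ht htu hN in
theorem isIntegral_CC : Algebra.IsIntegral (GrLC.deg0 𝒜) CC := by
  classical
  refine ⟨fun c => ?_⟩
  obtain ⟨r, rfl⟩ := Ideal.Quotient.mk_surjective c
  rw [← sum_support_decompose 𝒜 r, map_sum]
  refine IsIntegral.sum _ fun i _ => IsIntegral.of_pow hN ?_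
  have hmem : (decompose 𝒜 r i : R) ^ N * ((htu.unit ^ (-i) : Rˣ) : R) ∈ 𝒜 0 := by
    have := SetLike.GradedMul.mul_mem (SetLike.pow_mem_graded N (SetLike.coe_mem (decompose 𝒜 r i)))
      (unit_zpow_mem 𝒜 ht htu (-i))
    rwa [show N • i + -i * (N : ℤ) = 0 by rw [nsmul_eq_mul]; ring] at this
  have h := isIntegral_algebraMap (R := GrLC.deg0 𝒜) (A := CC) (x := ⟨_, hmem⟩)
  rwa [show algebraMap (GrLC.deg0 𝒜) CC ⟨_, hmem⟩ =
      Ideal.Quotient.mk (Ideal.span {t - 1}) (decompose 𝒜 r i : R) ^ N from by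
    change Ideal.Quotient.mk (Ideal.span {t - 1}) ((decompose 𝒜 r i : R) ^ N * ((htu.unit ^ (-i) : Rˣ) : R)) = _
    rw [map_mul, mk_unit_zpow, mul_one, map_pow]] at h

include ht htu hN hm in
theorem mk_mem_of_homogeneous (n : Ideal CC) [n.IsMaximal] {i : ℤ} (hi : ¬ (N : ℤ) ∣ i) {x : R} (hx : x ∈ 𝒜 i) :
    Ideal.Quotient.mk _ x ∈ n := by
  haveI := isIntegral_CC 𝒜 ht htu hN
  have hmax : (n.comap (algebraMap (GrLC.deg0 𝒜) CC)) = IsLocalRing.maximalIdeal _ :=
    IsLocalRing.eq_maximalIdeal (Ideal.isMaximal_comap_of_isIntegral_of_isMaximal n)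
  refine (Ideal.IsMaximal.isPrime inferInstance).mem_of_pow_mem N ?_
  have hy : x ^ (N - 1) * ((htu.unit ^ (-i) : Rˣ) : R) ∈ 𝒜 (-i) := by
    have := SetLike.GradedMul.mul_mem (SetLike.pow_mem_graded (N - 1) hx) (unit_zpow_mem 𝒜 ht htu (-i))
    rwa [show (N - 1) • i + -i * (N : ℤ) = -i by rw [nsmul_eq_mul, Nat.cast_sub hN]; push_cast; ring] at this
  obtain ⟨c, hc, hxy⟩ := mul_mem_max 𝒜 ht htu hN hm hi hx hy
  rw [← hmax, Ideal.mem_comap] at hc
  change Ideal.Quotient.mk _ (c : R) ∈ n at hc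
  rwa [← hxy, map_mul, map_mul, mk_unit_zpow, mul_one, ← map_mul, ← pow_succ',
    Nat.sub_add_cancel hN, map_pow] at hc

include ht htu hN hm in
theorem isLocalRing_CC : IsLocalRing CC := by
  haveI := nontrivial_CC 𝒜 ht htu hN
  haveI := isIntegral_CC 𝒜 ht htu hN
  obtain ⟨M, hM⟩ := Ideal.exists_maximal CC
  refine IsLocalRing.of_unique_max_ideal ⟨M, hM, fun n hn => ?_⟩
  refine hn.eq_of_le hM.ne_top fun z hz => ?_
  obtain ⟨r, rfl⟩ := Ideal.Quotient.mk_surjective z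
  classical
  let s := (decompose 𝒜 r).support
  have hdec : r = ∑ i ∈ s, (decompose 𝒜 r i : R) := (sum_support_decompose 𝒜 r).symm
  have hsplit : ∃ (c : GrLC.deg0 𝒜) (e : R), (∀ (n : Ideal CC), n.IsMaximal → Ideal.Quotient.mk _ e ∈ n) ∧
      Ideal.Quotient.mk (Ideal.span {t - 1}) r = algebraMap (GrLC.deg0 𝒜) CC c + Ideal.Quotient.mk _ e := by
    have hterm : ∀ i, (N : ℤ) ∣ i → (decompose 𝒜 r i : R) * ((htu.unit ^ (-(i / (N : ℤ))) : Rˣ) : R) ∈ 𝒜 0 := by
      intro i hi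
      have := SetLike.GradedMul.mul_mem (SetLike.coe_mem (decompose 𝒜 r i))
        (unit_zpow_mem 𝒜 ht htu (-(i / (N : ℤ))))
      rwa [show i + -(i / (N : ℤ)) * (N : ℤ) = 0 by rw [neg_mul, Int.ediv_mul_cancel hi, add_neg_cancel]] at this
    refine ⟨∑ i ∈ (s.filter fun i => (N : ℤ) ∣ i).attach,
      ⟨_, hterm i.1 (Finset.mem_filter.mp i.2).2⟩, ∑ i ∈ s.filter (fun i => ¬ (N : ℤ) ∣ i), (decompose 𝒜 r i : R),
      fun n hn => ?_, ?_⟩
    · rw [map_sum]
      exact Ideal.sum_mem _ fun i hi => mk_mem_of_homogeneous 𝒜 ht htu hN hm n (Finset.mem_filter.mp hi).2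
        (SetLike.coe_mem _)
    · conv_lhs => rw [hdec, ← Finset.sum_filter_add_sum_filter_not s (fun i => (N : ℤ) ∣ i)]
      rw [map_add]
      congr 1
      rw [map_sum, map_sum, ← Finset.sum_attach (s.filter fun i => (N : ℤ) ∣ i)]
      refine Finset.sum_congr rfl fun i _ => ?_
      change _ = Ideal.Quotient.mk _ ((decompose 𝒜 r i.1 : R) * _)
      rw [map_mul, mk_unit_zpow, mul_one]
  obtain ⟨c, e, he, hr⟩ := hsplit
  rw [hr] at hz ⊢
  refine Ideal.add_mem _ ?_ (he M hM)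
  have hc := (Ideal.add_mem_iff_left _ (he n hn)).mp hz
  rw [← Ideal.mem_comap, IsLocalRing.eq_maximalIdeal (Ideal.isMaximal_comap_of_isIntegral_of_isMaximal M)]
  rw [← Ideal.mem_comap, IsLocalRing.eq_maximalIdeal (Ideal.isMaximal_comap_of_isIntegral_of_isMaximal n)] at hc
  exact hc

include ht htu hN hm in
/-- The coefficientwise prime of the maximal ideal is generated from `R`. -/
theorem coeffIdeal_le_map [IsLocalRing CC] :
    ExtRees.coeffIdeal (IsLocalRing.maximalIdeal CC) ≤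
      ((ExtRees.coeffIdeal (IsLocalRing.maximalIdeal CC)).comap (rho 𝒜 (t := t))).map (rho 𝒜 (t := t)) := by
  classical
  set Q := ExtRees.coeffIdeal (IsLocalRing.maximalIdeal CC)
  set J := (Q.comap (rho 𝒜 (t := t))).map (rho 𝒜 (t := t))
  have hhom : ∀ (i : ℤ) (x : R), x ∈ 𝒜 i → Ideal.Quotient.mk (Ideal.span {t - 1}) x ∈ IsLocalRing.maximalIdeal CC →
      LaurentPolynomial.C (Ideal.Quotient.mk (Ideal.span {t - 1}) x) ∈ J := by
    intro i x hx hxm
    have h1 : rho 𝒜 (t := t) x ∈ Q := by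
      rw [rho_of_mem 𝒜 hx]
      refine Q.mul_mem_right _ ?_
      have h2 : algebraMap CC (CC)[T;T⁻¹] (Ideal.Quotient.mk (Ideal.span {t - 1}) x) ∈ Q := by
        rw [← Ideal.mem_comap, ExtRees.comap_coeffIdeal]; exact hxm
      exact h2
    have h2 := J.mul_mem_right (T (-i)) (Ideal.mem_map_of_mem (rho 𝒜 (t := t)) h1)
    rwa [rho_of_mem 𝒜 hx, mul_T_assoc, add_neg_cancel, T_zero, mul_one] at h2
  intro z hz
  rw [← ExtRees.sum_monomials z]
  refine Ideal.sum_mem _ fun n _ => J.mul_mem_right _ ?_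
  have hzn := ExtRees.mem_coeffIdeal.mp hz n
  obtain ⟨r, hr⟩ := Ideal.Quotient.mk_surjective (z.coeff n)
  rw [← hr] at hzn ⊢
  let s := (decompose 𝒜 r).support
  have hdec : r = ∑ i ∈ s, (decompose 𝒜 r i : R) := (sum_support_decompose 𝒜 r).symm
  have hterm : ∀ i, (N : ℤ) ∣ i → (decompose 𝒜 r i : R) * ((htu.unit ^ (-(i / (N : ℤ))) : Rˣ) : R) ∈ 𝒜 0 := by
    intro i hi
    have := SetLike.GradedMul.mul_mem (SetLike.coe_mem (decompose 𝒜 r i)) (unit_zpow_mem 𝒜 ht htu (-(i / (N : ℤ))))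
    rwa [show i + -(i / (N : ℤ)) * (N : ℤ) = 0 by rw [neg_mul, Int.ediv_mul_cancel hi, add_neg_cancel]] at this
  set c : R := ∑ i ∈ s.filter (fun i => (N : ℤ) ∣ i),
    (decompose 𝒜 r i : R) * ((htu.unit ^ (-(i / (N : ℤ))) : Rˣ) : R)
  have hc0 : c ∈ 𝒜 0 := sum_mem fun i hi => hterm i (Finset.mem_filter.mp hi).2
  have hre : Ideal.Quotient.mk (Ideal.span {t - 1}) r = Ideal.Quotient.mk (Ideal.span {t - 1}) c +
      ∑ i ∈ s.filter (fun i => ¬ (N : ℤ) ∣ i), Ideal.Quotient.mk (Ideal.span {t - 1}) (decompose 𝒜 r i : R) := by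
    conv_lhs => rw [hdec, ← Finset.sum_filter_add_sum_filter_not s (fun i => (N : ℤ) ∣ i), map_add, map_sum,
      map_sum]
    congr 1
    rw [map_sum]
    exact Finset.sum_congr rfl fun i _ => by rw [map_mul, mk_unit_zpow, mul_one]
  have hrest : ∀ i ∈ s.filter (fun i => ¬ (N : ℤ) ∣ i),
      Ideal.Quotient.mk (Ideal.span {t - 1}) (decompose 𝒜 r i : R) ∈ IsLocalRing.maximalIdeal CC :=
    fun i hi => mk_mem_of_homogeneous 𝒜 ht htu hN hm _ (Finset.mem_filter.mp hi).2 (SetLike.coe_mem _)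
  rw [hre] at hzn ⊢
  have hcm := (Ideal.add_mem_iff_left _ (Ideal.sum_mem _ hrest)).mp hzn
  rw [map_add]
  refine Ideal.add_mem _ (hhom 0 c hc0 hcm) ?_
  rw [map_sum]
  exact Ideal.sum_mem _ fun i hi => hhom i _ (SetLike.coe_mem _) (hrest i hi)

/-- Regularity at a prime generated from below along a flat map. -/
theorem isRegularLocalRing_of_map_comap {R S : Type u} [CommRing R] [CommRing S] [IsNoetherianRing R]
    [IsNoetherianRing S] (ρ : R →+* S) (hflat : ρ.Flat) (Q : Ideal S) [Q.IsPrime]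
    (hreg : IsRegularLocalRing (Localization.AtPrime (Q.comap ρ))) (hQ : Q ≤ (Q.comap ρ).map ρ) :
    IsRegularLocalRing (Localization.AtPrime Q) := by
  letI : Algebra R S := ρ.toAlgebra
  haveI : Module.Flat R S := hflat
  let M := Q.comap (algebraMap R S)
  haveI : Q.LiesOver M := ⟨rfl⟩
  haveI : IsRegularLocalRing (Localization.AtPrime M) := hreg
  have hQM : Q = M.map (algebraMap R S) := le_antisymm hQ (Ideal.map_le_iff_le_comap.mpr le_rfl)
  let L := Localization.AtPrime Q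
  letI := Localization.AtPrime.algebraOfLiesOver M Q
  have hmax : IsLocalRing.maximalIdeal L =
      (IsLocalRing.maximalIdeal (Localization.AtPrime M)).map (algebraMap (Localization.AtPrime M) L) := by
    have h1 := congrArg (Ideal.map (algebraMap S L)) hQM
    rw [Localization.AtPrime.map_eq_maximalIdeal, Ideal.map_map, ← IsScalarTower.algebraMap_eq] at h1
    rw [h1]
    rw [← Localization.AtPrime.map_eq_maximalIdeal, Ideal.map_map, ← IsScalarTower.algebraMap_eq]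
  haveI : IsNoetherianRing L := IsLocalization.isNoetherianRing Q.primeCompl L inferInstance
  refine IsRegularLocalRing.of_spanFinrank_maximalIdeal_le L ?_
  refine le_trans (WithBot.coe_le_coe.mpr (Nat.cast_le.mpr ((congrArg Submodule.spanFinrank hmax).le.trans
    (Ideal.spanFinrank_map_le_of_fg (algebraMap (Localization.AtPrime M) L) (IsNoetherian.noetherian _))))) ?_
  refine (IsRegularLocalRing.spanFinrank_maximalIdeal (R := Localization.AtPrime M)).le.trans ?_
  rw [IsLocalization.AtPrime.ringKrullDim_eq_height M, IsLocalization.AtPrime.ringKrullDim_eq_height Q]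
  refine WithBot.coe_le_coe.mpr ?_
  rw [Ideal.height_eq_height_add_of_liesOver_of_hasGoingDown M Q]
  exact le_self_add

section Regular

variable [IsNoetherianRing R] (hreg : ∀ (p : Ideal R) [p.IsPrime], IsRegularLocalRing (Localization.AtPrime p))

include ht htu hN hm hreg in
theorem isRegularLocalRing_CC : IsRegularLocalRing CC := by
  haveI := isLocalRing_CC 𝒜 ht htu hN hm
  haveI : IsNoetherianRing (CC)[T;T⁻¹] := isNoetherianRing_laurent
  haveI : Module.Free R BB := (Polynomial.monic_X_pow_sub_C t hN.ne').free_adjoinRoot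
  have hflat : (rho 𝒜 (t := t)).Flat := by
    have h1 : (AdjoinRoot.of (Polynomial.X ^ N - Polynomial.C t)).Flat :=
      RingHom.flat_algebraMap_iff.mpr inferInstance
    have h2 := RingHom.Flat.comp h1 (RingHom.Flat.of_bijective (f := (equiv 𝒜 ht htu hN : BB →+* (CC)[T;T⁻¹]))
      (equiv 𝒜 ht htu hN).bijective)
    convert h2 using 1
    exact RingHom.ext fun r => (AdjoinRoot.lift_of ((psi_eval 𝒜).mpr (rho_t 𝒜 ht))).symm
  let Q := ExtRees.coeffIdeal (IsLocalRing.maximalIdeal CC)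
  let L := Localization.AtPrime Q
  haveI : IsRegularLocalRing L := isRegularLocalRing_of_map_comap (rho 𝒜 (t := t)) hflat Q
    (hreg _) (coeffIdeal_le_map 𝒜 ht htu hN hm)
  haveI : Module.Flat CC L := Module.Flat.trans CC (CC)[T;T⁻¹] L
  haveI : IsLocalHom (algebraMap CC L) := by
    refine ⟨fun c hc => ?_⟩
    by_contra hu
    rw [IsScalarTower.algebraMap_apply CC (CC)[T;T⁻¹] L] at hc
    have hcQ : algebraMap CC (CC)[T;T⁻¹] c ∈ Q := by
      rw [← Ideal.mem_comap, ExtRees.comap_coeffIdeal]; exact hu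
    exact (IsLocalization.AtPrime.to_map_mem_maximal_iff L Q _).mpr hcQ hc
  exact H05EGA4.isRegularLocalRing_of_flat (A := CC) (B := L)

include ht htu hN hm hreg in
theorem isRegularLocalRing_adjoinRoot (q : Ideal BB) [q.IsPrime] :
    IsRegularLocalRing (Localization.AtPrime q) := by
  haveI := isRegularLocalRing_CC 𝒜 ht htu hN hm hreg
  haveI : IsRegularRing CC := H05EGA4.isRegularRing_of_isRegularLocalRing _
  haveI : IsRegularRing (CC)[T;T⁻¹] := by
    haveI : IsNoetherianRing (CC)[T;T⁻¹] := isNoetherianRing_laurent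
    exact H05EGA4.isRegularRing_iff_rs.mpr ((H05EGA4.rs_of_isRegularRing (CC)[X]).of_isLocalization
      (Submonoid.powers (Polynomial.X : (CC)[X])) _)
  exact isRegularRing_iff.mp (IsRegularRing.of_ringEquiv (equiv 𝒜 ht htu hN).symm) q

end Regular

end Groth.Agent.H24Filt.TwistedUnit
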